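import Mathlib.AlgebraicGeometry.AffineScheme
import Mathlib.AlgebraicGeometry.ResidueField
import Mathlib.AlgebraicGeometry.Pullbacks
import Mathlib.RingTheory.MvPolynomial.Basic

/-!
# The Danielewski surface `c z = w (w + 1)` cut by a split base

For a scheme `T` with two opens `T₁`, `T₂` covering it and meeting in `D(c)`, the locus of points of
`{c z = w (w + 1)}` over `T` with `w + 1` invertible over `T₁` or `w` invertible over `T₂`.
-/

set_option autoImplicit false
set_option linter.style.haveILetI false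
set_option backward.isDefEq.respectTransparency false
set_option backward.isDefEq.respectTransparency.types false

universe u

open CategoryTheory CategoryTheory.Limits AlgebraicGeometry Opposite TopologicalSpace

noncomputable section

namespace Groth.Agent.GaNotSC

section Eval

variable {X Y : Scheme.{u}}

/-- evaluation of a global function at a point -/
def ev (x : X) : Γ(X, ⊤) →+* X.residueField x := (X.Γevaluation x).hom

theorem mem_basicOpen_iff (f : Γ(X, ⊤)) (x : X) : x ∈ X.basicOpen f ↔ ev x f ≠ 0 :=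
  (X.evaluation_ne_zero_iff_mem_basicOpen (U := ⊤) x trivial f).symm

theorem notMem_basicOpen_iff (f : Γ(X, ⊤)) (x : X) : x ∉ X.basicOpen f ↔ ev x f = 0 :=
  (X.evaluation_eq_zero_iff_notMem_basicOpen (U := ⊤) x trivial f).symm

theorem mem_basicOpen_appTop (g : X ⟶ Y) (f : Γ(Y, ⊤)) (x : X) :
    g x ∈ Y.basicOpen f ↔ x ∈ X.basicOpen (g.appTop f) := by
  rw [← g.preimage_basicOpen_top]; rfl

theorem isUnit_res_basicOpen (f : Γ(X, ⊤)) (U : X.Opens) (h : U ≤ X.basicOpen f) :
    IsUnit (X.presheaf.map (homOfLE (le_top : U ≤ ⊤)).op f) := by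
  rw [show (homOfLE (le_top : U ≤ ⊤)).op = (homOfLE (X.basicOpen_le f)).op ≫ (homOfLE h).op from rfl,
    Functor.map_comp]
  exact (RingedSpace.isUnit_res_basicOpen X.toLocallyRingedSpace.toRingedSpace f).map
    (X.presheaf.map (homOfLE h).op).hom

end Eval

variable {R : Type u} [CommRing R] (c : R)

/-- the polynomial `c z - w (w + 1)` -/
def danPoly : MvPolynomial (Fin 2) R :=
  MvPolynomial.C c * MvPolynomial.X 1 - MvPolynomial.X 0 * (MvPolynomial.X 0 + 1)

/-- the coordinate ring of `c z = w (w + 1)` -/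
abbrev DanRing : Type u := MvPolynomial (Fin 2) R ⧸ Ideal.span {danPoly c}

/-- the projection to `Spec R` -/
def danToR : Spec (CommRingCat.of (DanRing c)) ⟶ Spec (CommRingCat.of R) :=
  Spec.map (CommRingCat.ofHom (algebraMap R (DanRing c)))

/-- pull a constant to global functions -/
def cst {T : Scheme.{u}} (g : T ⟶ Spec (CommRingCat.of R)) : R →+* Γ(T, ⊤) :=
  ((Scheme.ΓSpecIso (CommRingCat.of R)).inv ≫ g.appTop).hom

theorem cst_comp {T' T : Scheme.{u}} (a : T' ⟶ T) (g : T ⟶ Spec (CommRingCat.of R)) (r : R) :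
    cst (a ≫ g) r = a.appTop (cst g r) := by
  simp [cst, Scheme.Hom.comp_appTop]

/-- A scheme over `R` split by two opens meeting in `D(c)`. -/
structure Split where
  T : Scheme.{u}
  g : T ⟶ Spec (CommRingCat.of R)
  T₁ : T.Opens
  T₂ : T.Opens
  cover : ∀ t : T, t ∈ T₁ ∨ t ∈ T₂
  inter : T₁ ⊓ T₂ = T.basicOpen (cst g c)

variable {c} (D : Split c)

/-- the ambient product -/
abbrev Split.amb : Scheme.{u} := pullback D.g (danToR c)

/-- a coordinate function on the ambient product -/
def Split.coord (i : Fin 2) : Γ(D.amb, ⊤) :=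
  (pullback.snd D.g (danToR c)).appTop
    ((Scheme.ΓSpecIso (CommRingCat.of (DanRing c))).inv (Ideal.Quotient.mk _ (MvPolynomial.X i)))

/-- the open locus -/
def Split.W : D.amb.Opens :=
  (pullback.fst D.g (danToR c) ⁻¹ᵁ D.T₁ ⊓ D.amb.basicOpen (D.coord 0 + 1)) ⊔
    (pullback.fst D.g (danToR c) ⁻¹ᵁ D.T₂ ⊓ D.amb.basicOpen (D.coord 0))

/-- the torsor -/
def Split.P : Scheme.{u} := D.W

/-- its projection -/
def Split.pr : D.P ⟶ D.T := D.W.ι ≫ pullback.fst _ _

/-- its coordinates -/
def Split.w : Γ(D.P, ⊤) := D.W.ι.appTop (D.coord 0)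

/-- its coordinates -/
def Split.z : Γ(D.P, ⊤) := D.W.ι.appTop (D.coord 1)

/-- the condition on a point -/
def Split.Good {Y : Scheme.{u}} (a : Y ⟶ D.T) (w : Γ(Y, ⊤)) (y : Y) : Prop :=
  (a y ∈ D.T₁ ∧ y ∈ Y.basicOpen (w + 1)) ∨ (a y ∈ D.T₂ ∧ y ∈ Y.basicOpen w)

theorem Split.good_amb (x : D.amb) : x ∈ D.W ↔ D.Good (pullback.fst _ _) (D.coord 0) x := Iff.rfl

theorem Split.Good.comp {Y Y' : Scheme.{u}} (b : Y' ⟶ Y) {a : Y ⟶ D.T} {w : Γ(Y, ⊤)} {y : Y'} :
    D.Good (b ≫ a) (b.appTop w) y ↔ D.Good a w (b y) := by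
  rw [Split.Good, Split.Good, mem_basicOpen_appTop, mem_basicOpen_appTop, map_add, map_one]
  rfl

theorem Split.good (y : D.P) : D.Good D.pr D.w y :=
  (Split.Good.comp D D.W.ι).2 ((D.good_amb _).1 y.2)

theorem Split.rel : cst (D.pr ≫ D.g) c * D.z = D.w * (D.w + 1) := by
  rw [Split.pr, Category.assoc, pullback.condition, ← Category.assoc]
  rw [cst_comp]
  have h : cst (danToR c) c * (Scheme.ΓSpecIso (CommRingCat.of (DanRing c))).inv (Ideal.Quotient.mk _ (MvPolynomial.X 1)) =
      (Scheme.ΓSpecIso (CommRingCat.of (DanRing c))).inv (Ideal.Quotient.mk _ (MvPolynomial.X 0)) *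
        ((Scheme.ΓSpecIso (CommRingCat.of (DanRing c))).inv (Ideal.Quotient.mk _ (MvPolynomial.X 0)) + 1) := by
    have e : cst (danToR c) c = (Scheme.ΓSpecIso (CommRingCat.of (DanRing c))).inv (algebraMap R (DanRing c) c) :=
      ConcreteCategory.congr_hom (Scheme.ΓSpecIso_inv_naturality (CommRingCat.ofHom (algebraMap R (DanRing c)))).symm c
    rw [e, ← map_mul, ← map_one (Scheme.ΓSpecIso (CommRingCat.of (DanRing c))).inv.hom, ← map_add, ← map_mul]
    congr 1
    rw [IsScalarTower.algebraMap_apply R (MvPolynomial (Fin 2) R) (DanRing c), Ideal.Quotient.algebraMap_eq,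
      MvPolynomial.algebraMap_eq, ← map_mul, ← map_one (Ideal.Quotient.mk (Ideal.span {danPoly c})), ← map_add,
      ← map_mul, Ideal.Quotient.eq]
    exact Ideal.mem_span_singleton_self _
  have h' := congrArg ((D.W.ι ≫ pullback.snd D.g (danToR c)).appTop) h
  simp only [map_mul, map_add, map_one, Scheme.Hom.comp_appTop, CommRingCat.comp_apply] at h'
  simp only [Scheme.Hom.comp_appTop, CommRingCat.comp_apply, Split.z, Split.w, Split.coord]
  exact h'

section Mk

variable {Y : Scheme.{u}} (a : Y ⟶ D.T) (w z : Γ(Y, ⊤)) (eq : cst (a ≫ D.g) c * z = w * (w + 1))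

/-- the ring map of a point of the surface -/
def danHom : DanRing c →+* Γ(Y, ⊤) :=
  Ideal.Quotient.lift _ (MvPolynomial.eval₂Hom (cst (a ≫ D.g)) ![w, z]) (fun p hp => by
    obtain ⟨q, rfl⟩ := Ideal.mem_span_singleton'.1 hp
    rw [map_mul, danPoly, map_sub, map_mul, map_mul, map_add, map_one]
    simp [eq])

theorem danHom_X (i : Fin 2) : danHom D a w z eq (Ideal.Quotient.mk _ (MvPolynomial.X i)) = ![w, z] i := by
  simp [danHom]

/-- a point of the surface -/
def danPt : Y ⟶ Spec (CommRingCat.of (DanRing c)) := Y.toSpecΓ ≫ Spec.map (CommRingCat.ofHom (danHom D a w z eq))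

theorem danPt_appTop (b : DanRing c) :
    (danPt D a w z eq).appTop ((Scheme.ΓSpecIso (CommRingCat.of (DanRing c))).inv b) = danHom D a w z eq b := by
  rw [danPt, Scheme.Hom.comp_appTop, CommRingCat.comp_apply]
  erw [← ConcreteCategory.congr_hom (Scheme.ΓSpecIso_inv_naturality (CommRingCat.ofHom (danHom D a w z eq))) b]
  rw [CommRingCat.comp_apply, Scheme.toSpecΓ_appTop]
  exact Iso.inv_hom_id_apply (Scheme.ΓSpecIso Γ(Y, ⊤)) _

theorem danPt_toR : a ≫ D.g = danPt D a w z eq ≫ danToR c := by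
  refine ext_of_isAffine (CommRingCat.hom_ext (RingHom.ext fun s => ?_))
  obtain ⟨r, rfl⟩ := (ConcreteCategory.bijective_of_isIso (Scheme.ΓSpecIso (CommRingCat.of R)).inv).2 s
  have e : (danToR c).appTop ((Scheme.ΓSpecIso (CommRingCat.of R)).inv r) =
      (Scheme.ΓSpecIso (CommRingCat.of (DanRing c))).inv (algebraMap R (DanRing c) r) :=
    ConcreteCategory.congr_hom (Scheme.ΓSpecIso_inv_naturality (CommRingCat.ofHom (algebraMap R (DanRing c)))).symm r
  rw [Scheme.Hom.comp_appTop (danPt D a w z eq), CommRingCat.comp_apply, e, danPt_appTop,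
    IsScalarTower.algebraMap_apply R (MvPolynomial (Fin 2) R) (DanRing c), Ideal.Quotient.algebraMap_eq,
    MvPolynomial.algebraMap_eq]
  simp [danHom, cst]

/-- the point of the ambient product -/
def ambPt : Y ⟶ D.amb := pullback.lift a (danPt D a w z eq) (danPt_toR D a w z eq)

theorem ambPt_coord (i : Fin 2) : (ambPt D a w z eq).appTop (D.coord i) = ![w, z] i := by
  rw [Split.coord, ← CommRingCat.comp_apply, ← Scheme.Hom.comp_appTop, ambPt, pullback.lift_snd, danPt_appTop,
    danHom_X]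

variable (good : ∀ y, D.Good a w y)

include good in
theorem range_ambPt : Set.range (ambPt D a w z eq) ⊆ Set.range D.W.ι := by
  rintro _ ⟨y, rfl⟩
  rw [Scheme.Opens.range_ι]
  refine (D.good_amb _).2 ((Split.Good.comp D (ambPt D a w z eq)).1 ?_)
  rw [ambPt_coord, ambPt, pullback.lift_fst]
  exact good y

/-- The point of the torsor with given coordinates. -/
def Split.mk' : Y ⟶ D.P := IsOpenImmersion.lift D.W.ι (ambPt D a w z eq) (range_ambPt D a w z eq good)

@[reassoc]
theorem Split.mk'_pr : D.mk' a w z eq good ≫ D.pr = a := by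
  rw [Split.pr, Split.mk', IsOpenImmersion.lift_fac_assoc, ambPt, pullback.lift_fst]

theorem Split.mk'_w : (D.mk' a w z eq good).appTop D.w = w := by
  have h : (D.mk' a w z eq good ≫ D.W.ι).appTop (D.coord 0) = w := by
    rw [Split.mk', IsOpenImmersion.lift_fac, ambPt_coord]; rfl
  exact h

theorem Split.mk'_z : (D.mk' a w z eq good).appTop D.z = z := by
  have h : (D.mk' a w z eq good ≫ D.W.ι).appTop (D.coord 1) = z := by
    rw [Split.mk', IsOpenImmersion.lift_fac, ambPt_coord]; rfl
  exact h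

end Mk

theorem Split.hom_ext {Y : Scheme.{u}} {x y : Y ⟶ D.P} (hp : x ≫ D.pr = y ≫ D.pr)
    (hw : x.appTop D.w = y.appTop D.w) (hz : x.appTop D.z = y.appTop D.z) : x = y := by
  refine (cancel_mono D.W.ι).1 (pullback.hom_ext ?_ ?_)
  · simpa [Split.pr] using hp
  · refine ext_of_isAffine ?_
    refine (cancel_epi (Scheme.ΓSpecIso (CommRingCat.of (DanRing c))).inv).1 ?_
    refine CommRingCat.hom_ext (Ideal.Quotient.ringHom_ext (MvPolynomial.ringHom_ext (fun r => ?_) (fun i => ?_)))
    · have e : Ideal.Quotient.mk (Ideal.span {danPoly c}) (MvPolynomial.C r) = algebraMap R (DanRing c) r := rfl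
      have key : ∀ m : Y ⟶ D.P, ((m ≫ D.W.ι) ≫ pullback.snd _ _).appTop
          ((Scheme.ΓSpecIso (CommRingCat.of (DanRing c))).inv (algebraMap R (DanRing c) r)) = cst ((m ≫ D.pr) ≫ D.g) r := by
        intro m
        rw [show (m ≫ D.pr) ≫ D.g = ((m ≫ D.W.ι) ≫ pullback.snd _ _) ≫ danToR c by
          simp [Split.pr, pullback.condition], cst_comp]
        exact congrArg _ (ConcreteCategory.congr_hom
          (Scheme.ΓSpecIso_inv_naturality (CommRingCat.ofHom (algebraMap R (DanRing c)))) r)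
      simp only [RingHom.comp_apply, CommRingCat.hom_comp, e]
      exact (key x).trans ((congrArg (fun m => cst (m ≫ D.g) r) hp).trans (key y).symm)
    · fin_cases i
      · exact hw
      · exact hz

end Groth.Agent.GaNotSC
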