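import Groth.Prelude.Def_GmAct
import Mathlib.RingTheory.DiscreteValuationRing.Basic
import Mathlib.RingTheory.Polynomial.Quotient
import Mathlib.RingTheory.Flat.Basic
import Mathlib.RingTheory.Ideal.GoingDown

/-!
# The node `s t = π` and flat algebras over it
-/

set_option autoImplicit false
set_option linter.style.haveILetI false
set_option backward.isDefEq.respectTransparency false
set_option backward.isDefEq.respectTransparency.types false
set_option synthInstance.maxHeartbeats 400000

universe u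

open scoped Polynomial

noncomputable section

namespace Groth.Agent.GaNotSC

open ThetaS

section Flat

variable {A B : Type u} [CommRing A] [CommRing B] [Algebra A B] [Module.Flat A B]

theorem flat_injective {a : A} (ha : ∀ x, a * x = 0 → x = 0) {b : B} (h : algebraMap A B a * b = 0) : b = 0 := by
  have inj : Function.Injective (LinearMap.mulLeft A a) := fun x y e =>
    sub_eq_zero.1 (ha _ (by rw [mul_sub]; exact sub_eq_zero.2 e))
  have := Module.Flat.rTensor_preserves_injective_linearMap (M := B) _ inj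
  refine (TensorProduct.lid A B).symm.injective (this ?_)
  rw [map_zero, map_zero, TensorProduct.lid_symm_apply, LinearMap.rTensor_tmul, LinearMap.mulLeft_apply, mul_one]
  rw [← mul_one a, ← smul_eq_mul, TensorProduct.smul_tmul, Algebra.smul_def, h, TensorProduct.tmul_zero]

theorem flat_dvd {s t : A} (hst : ∀ x, s ∣ t * x → s ∣ x) {b : B}
    (h : algebraMap A B s ∣ algebraMap A B t * b) : algebraMap A B s ∣ b := by
  have inj : Function.Injective (LinearMap.mulLeft A (Ideal.Quotient.mk (Ideal.span {s}) t)) := by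
    intro x y e
    obtain ⟨x, rfl⟩ := Ideal.Quotient.mk_surjective x
    obtain ⟨y, rfl⟩ := Ideal.Quotient.mk_surjective y
    rw [LinearMap.mulLeft_apply, LinearMap.mulLeft_apply, ← map_mul, ← map_mul, Ideal.Quotient.eq, ← mul_sub,
      Ideal.mem_span_singleton] at e
    exact Ideal.Quotient.eq.2 (Ideal.mem_span_singleton.2 (hst _ e))
  have h2 := Module.Flat.rTensor_preserves_injective_linearMap (M := B) _ inj
  obtain ⟨c, hc⟩ := h
  have z : (1 : A ⧸ Ideal.span {s}) ⊗ₜ[A] b = 0 := by
    refine h2 ?_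
    rw [map_zero, LinearMap.rTensor_tmul, LinearMap.mulLeft_apply, mul_one,
      show (Ideal.Quotient.mk (Ideal.span {s}) t) = t • (1 : A ⧸ Ideal.span {s}) from by
        rw [Algebra.smul_def, mul_one]; rfl,
      TensorProduct.smul_tmul, Algebra.smul_def, hc, ← Algebra.smul_def,
      ← TensorProduct.smul_tmul, Algebra.smul_def, mul_one, Ideal.Quotient.algebraMap_eq,
      Ideal.Quotient.eq_zero_iff_mem.2 (Ideal.mem_span_singleton_self _), TensorProduct.zero_tmul]
  have z2 := congrArg (TensorProduct.quotTensorEquivQuotSMul B (Ideal.span {s})) z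
  erw [TensorProduct.quotTensorEquivQuotSMul_mk_tmul, one_smul, map_zero, Submodule.Quotient.mk_eq_zero] at z2
  obtain ⟨m, -, hm⟩ := (Submodule.ideal_span_singleton_smul s (⊤ : Submodule A B)).le z2
  exact ⟨m, by rw [← hm, DistribSMul.toLinearMap_apply, Algebra.smul_def]⟩

end Flat

variable {R : Type u} [CommRing R] [IsDomain R] {π : R}

theorem isPrime_span (hπ : Prime π) : (Ideal.span {π}).IsPrime := (Ideal.span_singleton_prime hπ.ne_zero).2 hπ

/-- the branch `s = 0` -/
def chi : STRing R π →ₐ[R] (R ⧸ Ideal.span {π})[X] :=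
  stPt 0 Polynomial.X (by
    rw [zero_mul, IsScalarTower.algebraMap_apply R (R ⧸ Ideal.span {π}) (R ⧸ Ideal.span {π})[X],
      Ideal.Quotient.algebraMap_eq, Ideal.Quotient.eq_zero_iff_mem.2 (Ideal.mem_span_singleton_self π), map_zero])

theorem chi_s : chi (sFn R π) = 0 := stPt_sFn _ _ _

theorem chi_t : chi (tFn R π) = (Polynomial.X : (R ⧸ Ideal.span {π})[X]) := stPt_tFn _ _ _

theorem ker_chi {a : STRing R π} (h : chi a = 0) : sFn R π ∣ a := by
  let J : Ideal (STRing R π) := Ideal.span {sFn R π}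
  let c : R →+* STRing R π ⧸ J := (Ideal.Quotient.mk J).comp (algebraMap R (STRing R π))
  have hc : ∀ x ∈ Ideal.span {π}, c x = 0 := fun x hx => by
    obtain ⟨y, rfl⟩ := Ideal.mem_span_singleton'.1 hx
    refine Ideal.Quotient.eq_zero_iff_mem.2 ?_
    rw [map_mul, ← sFn_mul_tFn]
    exact Ideal.mul_mem_left _ _ (Ideal.mul_mem_right _ _ (Ideal.mem_span_singleton_self _))
  let back : (R ⧸ Ideal.span {π})[X] →+* STRing R π ⧸ J :=
    Polynomial.eval₂RingHom (Ideal.Quotient.lift _ c hc) (Ideal.Quotient.mk J (tFn R π))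
  have e : back.comp (chi (R := R) (π := π)).toRingHom = Ideal.Quotient.mk J := by
    refine Ideal.Quotient.ringHom_ext (MvPolynomial.ringHom_ext (fun r => ?_) fun i => ?_)
    · show back (chi (algebraMap R (STRing R π) r)) = _
      rw [AlgHom.commutes, IsScalarTower.algebraMap_apply R (R ⧸ Ideal.span {π}) (R ⧸ Ideal.span {π})[X],
        Polynomial.algebraMap_apply, Ideal.Quotient.algebraMap_eq]
      exact (Polynomial.eval₂_C _ _).trans (Ideal.Quotient.lift_mk _ _ _)
    · fin_cases i
      · show back (chi (sFn R π)) = _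
        rw [chi_s, map_zero]
        exact (Ideal.Quotient.eq_zero_iff_mem.2 (Ideal.mem_span_singleton_self _)).symm
      · show back (chi (tFn R π)) = _
        rw [chi_t]
        exact Polynomial.eval₂_X _ _
  have h' := DFunLike.congr_fun e a
  change back (chi a) = _ at h'
  rw [h, map_zero] at h'
  exact Ideal.mem_span_singleton.1 (Ideal.Quotient.eq_zero_iff_mem.1 h'.symm)

theorem dvd_of_t_mul (hπ : Prime π) {a : STRing R π} (h : sFn R π ∣ tFn R π * a) : sFn R π ∣ a := by
  haveI := isPrime_span hπ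
  obtain ⟨b, hb⟩ := h
  have e := congrArg chi hb
  rw [map_mul, map_mul, chi_s, zero_mul, chi_t] at e
  exact ker_chi ((mul_eq_zero.1 e).resolve_left Polynomial.X_ne_zero)

theorem eq_zero_of_s_mul (hπ : π ≠ 0) {a : STRing R π} (h : sFn R π * a = 0) : a = 0 := by
  obtain ⟨p, rfl⟩ := Ideal.Quotient.mk_surjective a
  rw [← map_mul, Ideal.Quotient.eq_zero_iff_mem] at h
  obtain ⟨c, hc⟩ := Ideal.mem_span_singleton'.1 h
  let ψ : MvPolynomial (Fin 2) R →ₐ[R] R[X] := MvPolynomial.aeval ![0, Polynomial.X]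
  let J : Ideal (MvPolynomial (Fin 2) R) := Ideal.span {MvPolynomial.X 0}
  have e : ((Polynomial.aeval (Ideal.Quotient.mk J (MvPolynomial.X 1))).comp ψ) = Ideal.Quotient.mkₐ R J := by
    refine MvPolynomial.algHom_ext fun i => ?_
    fin_cases i
    · simp [ψ, J, Ideal.Quotient.mkₐ_eq_mk, eq_comm (a := (0 : MvPolynomial (Fin 2) R ⧸ J)),
        Ideal.Quotient.eq_zero_iff_mem.2 (Ideal.mem_span_singleton_self _)]
    · simp [ψ]
  have h2 := congrArg ψ hc
  simp [ψ] at h2
  have hψc : ψ c = 0 := h2.resolve_right hπ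
  have h3 := DFunLike.congr_fun e c
  rw [AlgHom.comp_apply, hψc, map_zero] at h3
  obtain ⟨d, hd⟩ := Ideal.mem_span_singleton.1 (Ideal.Quotient.eq_zero_iff_mem.1 h3.symm)
  have : p = d * (MvPolynomial.X 0 * MvPolynomial.X 1 - MvPolynomial.C π) := by
    refine mul_left_cancel₀ (MvPolynomial.X_ne_zero (0 : Fin 2)) ?_
    rw [← hc, hd]; ring
  rw [this, Ideal.Quotient.eq_zero_iff_mem]
  exact Ideal.mul_mem_left _ _ (Ideal.mem_span_singleton_self _)

/-- exchanging the branches -/
def swapST : STRing R π →ₐ[R] STRing R π :=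
  stPt (tFn R π) (sFn R π) (by rw [mul_comm, sFn_mul_tFn])

theorem swap_s : swapST (π := π) (sFn R π) = tFn R π := stPt_sFn _ _ _

theorem swap_t : swapST (π := π) (tFn R π) = sFn R π := stPt_tFn _ _ _

theorem swap_swap (a : STRing R π) : swapST (swapST a) = a :=
  DFunLike.congr_fun (stRing_algHom_ext (f := swapST.comp swapST) (g := AlgHom.id R (STRing R π))
    (by rw [AlgHom.comp_apply, swap_s, swap_t]; rfl) (by rw [AlgHom.comp_apply, swap_t, swap_s]; rfl)) a

theorem eq_zero_of_t_mul (hπ : π ≠ 0) {a : STRing R π} (h : tFn R π * a = 0) : a = 0 := by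
  have e := congrArg swapST h
  rw [map_mul, swap_t, map_zero] at e
  rw [← swap_swap a, eq_zero_of_s_mul hπ e, map_zero]

variable {B : Type u} [CommRing B] [Algebra (STRing R π) B] [Module.Flat (STRing R π) B]

theorem injective_of_flat {a : STRing R π} (ha : ∀ x, a * x = 0 → x = 0) {b : B}
    (h : algebraMap (STRing R π) B a * b = 0) : b = 0 :=
  flat_injective ha h

theorem dvd_of_t_mul_flat (hπ : Prime π) {b : B}
    (h : algebraMap (STRing R π) B (sFn R π) ∣ algebraMap (STRing R π) B (tFn R π) * b) :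
    algebraMap (STRing R π) B (sFn R π) ∣ b :=
  flat_dvd (fun _ hx => dvd_of_t_mul hπ hx) h

theorem dvd_of_pow_mul (hπ : Prime π) {b : B} (m : ℕ)
    (h : algebraMap (STRing R π) B (sFn R π) ∣ algebraMap (STRing R π) B (tFn R π) ^ m * b) :
    algebraMap (STRing R π) B (sFn R π) ∣ b := by
  induction m with
  | zero => simpa using h
  | succ m ih => exact ih (dvd_of_t_mul_flat hπ (by rwa [← mul_assoc, ← pow_succ']))

/-- Functions on the two branches glue over the node. -/
theorem exists_glue (hπ : Prime π) {a b : B} (n m l : ℕ)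
    (h : (algebraMap (STRing R π) B (sFn R π) * algebraMap (STRing R π) B (tFn R π)) ^ l *
      (a * algebraMap (STRing R π) B (tFn R π) ^ m) =
      (algebraMap (STRing R π) B (sFn R π) * algebraMap (STRing R π) B (tFn R π)) ^ l *
      (b * algebraMap (STRing R π) B (sFn R π) ^ n)) :
    ∃ e : B, a = algebraMap (STRing R π) B (sFn R π) ^ n * e ∧ b = algebraMap (STRing R π) B (tFn R π) ^ m * e := by
  set f := algebraMap (STRing R π) B (sFn R π) with hf
  set g := algebraMap (STRing R π) B (tFn R π) with hg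
  have hf0 : IsRegular f := isRegular_iff_mem_nonZeroDivisors.2 (mem_nonZeroDivisors_iff_right.2 fun x hx =>
    injective_of_flat (fun y hy => eq_zero_of_s_mul hπ.ne_zero hy) (by rwa [mul_comm] at hx))
  have hg0 : IsRegular g := isRegular_iff_mem_nonZeroDivisors.2 (mem_nonZeroDivisors_iff_right.2 fun x hx =>
    injective_of_flat (fun y hy => eq_zero_of_t_mul hπ.ne_zero hy) (by rwa [mul_comm] at hx))
  have h' : a * g ^ m = b * f ^ n := ((hf0.mul hg0).pow l).left h
  clear h
  induction n generalizing a with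
  | zero =>
    exact ⟨a, by simp, by rw [pow_zero, mul_one] at h'; rw [← h', mul_comm]⟩
  | succ n ih =>
    obtain ⟨a', rfl⟩ := dvd_of_pow_mul hπ m (b := a) ⟨b * f ^ n, by rw [mul_comm (g ^ m) a, h', pow_succ]; ring⟩
    obtain ⟨e, he, hb⟩ := ih (a := a') (hf0.left (show f * (a' * g ^ m) = f * (b * f ^ n) by
      linear_combination h'))
    exact ⟨e, by rw [he, pow_succ]; ring, hb⟩

/-- Over the node there are primes on both branches. -/
theorem exists_primes [IsDiscreteValuationRing R] (hπ : Irreducible π) (q : Ideal B) [q.IsPrime]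
    (hs : algebraMap (STRing R π) B (sFn R π) ∈ q) (ht : algebraMap (STRing R π) B (tFn R π) ∈ q) :
    ∃ q1 q2 : Ideal B, q1.IsPrime ∧ q2.IsPrime ∧ q1 ≤ q ∧ q2 ≤ q ∧
      algebraMap (STRing R π) B (sFn R π) ∈ q1 ∧ algebraMap (STRing R π) B (tFn R π) ∉ q1 ∧
      algebraMap (STRing R π) B (tFn R π) ∈ q2 ∧ algebraMap (STRing R π) B (sFn R π) ∉ q2 := by
  haveI := isPrime_span hπ.prime
  let p1 : Ideal (STRing R π) := RingHom.ker (chi (R := R) (π := π))
  haveI : p1.IsPrime := RingHom.ker_isPrime _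
  let p2 : Ideal (STRing R π) := p1.comap (swapST (π := π))
  haveI : p2.IsPrime := Ideal.comap_isPrime _ _
  let p := q.under (STRing R π)
  have hs1 : sFn R π ∈ p1 := chi_s
  have ht1 : tFn R π ∉ p1 := by rw [RingHom.mem_ker, chi_t]; exact Polynomial.X_ne_zero
  have le : ∀ a : STRing R π, chi a = 0 → a ∈ p := fun a ha => by
    obtain ⟨b, rfl⟩ := ker_chi ha
    exact Ideal.mul_mem_right _ _ hs
  have le2 : p2 ≤ p := fun a ha => by
    obtain ⟨b, hb⟩ := ker_chi (a := swapST a) ha
    have e := congrArg swapST hb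
    rw [swap_swap, map_mul, swap_s] at e
    rw [e]
    exact Ideal.mul_mem_right _ _ ht
  haveI : q.LiesOver p := ⟨rfl⟩
  obtain ⟨q1, h1, h1p, h1o⟩ := Ideal.exists_ideal_le_liesOver_of_le (p := p1) (q := p) q le
  obtain ⟨q2, h2, h2p, h2o⟩ := Ideal.exists_ideal_le_liesOver_of_le (p := p2) (q := p) q le2
  have o1 : ∀ x, x ∈ p1 ↔ algebraMap _ B x ∈ q1 := fun x => by rw [h1o.over]; rfl
  have o2 : ∀ x, x ∈ p2 ↔ algebraMap _ B x ∈ q2 := fun x => by rw [h2o.over]; rfl
  exact ⟨q1, q2, h1p, h2p, h1, h2, (o1 _).1 hs1, fun e => ht1 ((o1 _).2 e),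
    (o2 _).1 (show swapST (tFn R π) ∈ p1 by rw [swap_t]; exact hs1),
    fun e => ht1 (by have := (o2 _).2 e; change swapST (sFn R π) ∈ p1 at this; rwa [swap_s] at this)⟩

end Groth.Agent.GaNotSC
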