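import Groth.Agent.GaNotSC.Dan
import Groth.Agent.GaNotSC.NodeAlg
import Groth.Prelude.Def_ThetaS
import Mathlib.AlgebraicGeometry.Morphisms.Flat

/-!
# Functions on the complement of a node
-/

set_option autoImplicit false
set_option linter.style.haveILetI false
set_option backward.isDefEq.respectTransparency false
set_option backward.isDefEq.respectTransparency.types false

universe u

open CategoryTheory AlgebraicGeometry Opposite TopologicalSpace

noncomputable section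

namespace Groth.Agent.GaNotSC

theorem mem_basicOpen_iff_notMem {X : Scheme.{u}} (r : Γ(X, ⊤)) (y : X) :
    y ∈ X.basicOpen r ↔ r ∉ (X.toSpecΓ y : PrimeSpectrum Γ(X, ⊤)).asIdeal := by
  rw [← X.toSpecΓ_preimage_basicOpen]
  rfl

theorem exists_point {X : Scheme.{u}} [IsAffine X] (p : PrimeSpectrum Γ(X, ⊤)) : ∃ y : X, X.toSpecΓ y = p :=
  (X.toSpecΓ.homeomorph).surjective p

/-- a function on `D(f) ⊔ D(g)` comes from the affine scheme, when fractions glue -/
theorem exists_extend {X : Scheme.{u}} [IsAffine X] (f g : Γ(X, ⊤))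
    (hglue : ∀ (a b : Γ(X, ⊤)) (n m l : ℕ), (f * g) ^ l * (a * g ^ m) = (f * g) ^ l * (b * f ^ n) →
      ∃ e, a = f ^ n * e ∧ b = g ^ m * e)
    (w : Γ(X, X.basicOpen f ⊔ X.basicOpen g)) :
    ∃ e : Γ(X, ⊤), X.presheaf.map (homOfLE (le_top : X.basicOpen f ⊔ X.basicOpen g ≤ ⊤)).op e = w := by
  have hX := isAffineOpen_top X
  haveI := hX.isLocalization_basicOpen f
  haveI := hX.isLocalization_basicOpen g
  haveI := hX.isLocalization_basicOpen (f * g)
  let r : ∀ {U V : X.Opens} (_ : V ≤ U), Γ(X, U) →+* Γ(X, V) := fun h => (X.presheaf.map (homOfLE h).op).hom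
  have rr : ∀ {U V W : X.Opens} (h1 : V ≤ U) (h2 : W ≤ V) (x : Γ(X, U)), r h2 (r h1 x) = r (h2.trans h1) x := by
    intro U V W h1 h2 x
    show (X.presheaf.map _ ≫ X.presheaf.map _).hom x = _
    rw [← Functor.map_comp]; rfl
  have alg : ∀ (t : Γ(X, ⊤)) (x : Γ(X, ⊤)), algebraMap Γ(X, ⊤) Γ(X, X.basicOpen t) x = r (X.basicOpen_le t) x :=
    fun _ _ => rfl
  obtain ⟨⟨a, ⟨_, n, rfl⟩⟩, ha⟩ := IsLocalization.surj (Submonoid.powers f) (r le_sup_left w : Γ(X, X.basicOpen f))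
  obtain ⟨⟨b, ⟨_, m, rfl⟩⟩, hb⟩ := IsLocalization.surj (Submonoid.powers g) (r le_sup_right w : Γ(X, X.basicOpen g))
  simp only [alg] at ha hb
  have le1 : X.basicOpen (f * g) ≤ X.basicOpen f := by rw [Scheme.basicOpen_mul]; exact inf_le_left
  have le2 : X.basicOpen (f * g) ≤ X.basicOpen g := by rw [Scheme.basicOpen_mul]; exact inf_le_right
  have ha' := congrArg (r le1) ha
  have hb' := congrArg (r le2) hb
  rw [map_mul, rr, rr, rr] at ha' hb'
  have e0 : algebraMap Γ(X, ⊤) Γ(X, X.basicOpen (f * g)) (a * g ^ m) =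
      algebraMap Γ(X, ⊤) Γ(X, X.basicOpen (f * g)) (b * f ^ n) := by
    rw [alg, alg, map_mul, map_mul, ← ha', ← hb', mul_right_comm]
  obtain ⟨⟨_, l, rfl⟩, hl⟩ := IsLocalization.exists_of_eq (M := Submonoid.powers (f * g)) e0
  obtain ⟨e, he1, he2⟩ := hglue a b n m l hl
  refine ⟨e, X.sheaf.eq_of_locally_eq₂ (homOfLE (le_sup_left : X.basicOpen f ≤ _))
    (homOfLE (le_sup_right : X.basicOpen g ≤ _)) le_rfl _ _ ?_ ?_⟩
  · show r le_sup_left (r le_top e) = r le_sup_left w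
    rw [rr]
    refine ((isUnit_res_basicOpen f (X.basicOpen f) le_rfl).pow n).mul_right_cancel ?_
    show r _ e * (r (X.basicOpen_le f) f) ^ n = r _ w * (r (X.basicOpen_le f) f) ^ n
    rw [← map_pow, ha, he1, map_mul, mul_comm]
  · show r le_sup_right (r le_top e) = r le_sup_right w
    rw [rr]
    refine ((isUnit_res_basicOpen g (X.basicOpen g) le_rfl).pow m).mul_right_cancel ?_
    show r _ e * (r (X.basicOpen_le g) g) ^ m = r _ w * (r (X.basicOpen_le g) g) ^ m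
    rw [← map_pow, hb, he2, map_mul, mul_comm]

/-- the same, for functions on the open subscheme -/
theorem exists_extend' {X : Scheme.{u}} [IsAffine X] (f g : Γ(X, ⊤))
    (hglue : ∀ (a b : Γ(X, ⊤)) (n m l : ℕ), (f * g) ^ l * (a * g ^ m) = (f * g) ^ l * (b * f ^ n) →
      ∃ e, a = f ^ n * e ∧ b = g ^ m * e)
    (U : X.Opens) (hU : U = X.basicOpen f ⊔ X.basicOpen g) (w : Γ(U.toScheme, ⊤)) :
    ∃ e : Γ(X, ⊤), U.ι.appTop e = w := by
  subst hU
  obtain ⟨e, he⟩ := exists_extend f g hglue ((X.basicOpen f ⊔ X.basicOpen g).topIso.hom w)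
  refine ⟨e, (X.basicOpen f ⊔ X.basicOpen g).topIso.commRingCatIsoToRingEquiv.injective ?_⟩
  show ((X.basicOpen f ⊔ X.basicOpen g).ι.appTop ≫ (X.basicOpen f ⊔ X.basicOpen g).topIso.hom) e =
    (X.basicOpen f ⊔ X.basicOpen g).topIso.hom w
  rw [← he]
  congr 2
  rw [Scheme.Opens.ι_appTop, Scheme.Opens.topIso_hom, ← Functor.map_comp]
  rfl

variable {R : Type u} [CommRing R] [IsDomain R] [IsDiscreteValuationRing R] {π : R}

/-- A flat affine scheme over `s t = π` meeting the node has no function which is invertible over `t ≠ 0` when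
`π = 0`, with successor invertible over `s ≠ 0`, and killed with it by the other factor. -/
theorem no_section (hπ : Irreducible π) {X : Scheme.{u}} [IsAffine X]
    (v : X ⟶ Spec (CommRingCat.of (ThetaS.STRing R π))) [Flat v] (y : X)
    (hs : y ∉ X.basicOpen (v.appTop (ThetaS.stFn (ThetaS.sFn R π))))
    (ht : y ∉ X.basicOpen (v.appTop (ThetaS.stFn (ThetaS.tFn R π))))
    (U : X.Opens) (hU : U = X.basicOpen (v.appTop (ThetaS.stFn (ThetaS.sFn R π))) ⊔
      X.basicOpen (v.appTop (ThetaS.stFn (ThetaS.tFn R π)))) (w : Γ(U.toScheme, ⊤))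
    (h₁ : ∀ x : U.toScheme, U.ι x ∉ X.basicOpen (v.appTop (ThetaS.stFn (ThetaS.sFn R π))) →
      x ∈ U.toScheme.basicOpen w ∧ x ∉ U.toScheme.basicOpen (w + 1))
    (h₂ : ∀ x : U.toScheme, U.ι x ∉ X.basicOpen (v.appTop (ThetaS.stFn (ThetaS.tFn R π))) →
      x ∈ U.toScheme.basicOpen (w + 1) ∧ x ∉ U.toScheme.basicOpen w) : False := by
  let φ : ThetaS.STRing R π →+* Γ(X, ⊤) := ((Scheme.ΓSpecIso _).inv ≫ v.appTop).hom
  have hflat : φ.Flat := by
    refine RingHom.Flat.comp (RingHom.Flat.of_bijective ?_) (HasRingHomProperty.appTop (P := @Flat) v inferInstance)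
    exact ConcreteCategory.bijective_of_isIso (Scheme.ΓSpecIso _).inv
  algebraize [φ]
  have hf : v.appTop (ThetaS.stFn (ThetaS.sFn R π)) = algebraMap (ThetaS.STRing R π) Γ(X, ⊤) (ThetaS.sFn R π) := rfl
  have hg : v.appTop (ThetaS.stFn (ThetaS.tFn R π)) = algebraMap (ThetaS.STRing R π) Γ(X, ⊤) (ThetaS.tFn R π) := rfl
  rw [hf] at hs hU h₁
  rw [hg] at ht hU h₂
  obtain ⟨e, rfl⟩ := exists_extend' _ _ (fun a b n m l => exists_glue hπ.prime n m l) U hU w
  rw [mem_basicOpen_iff_notMem, not_not] at hs ht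
  obtain ⟨p1, p2, hp1, hp2, le1, le2, s1, t1, t2, s2⟩ := exists_primes hπ _ hs ht
  obtain ⟨y1, hy1⟩ := exists_point (X := X) ⟨p1, hp1⟩
  obtain ⟨y2, hy2⟩ := exists_point (X := X) ⟨p2, hp2⟩
  have m1 : y1 ∈ U := by
    rw [hU]; exact Or.inr ((mem_basicOpen_iff_notMem _ _).2 (by rw [hy1]; exact t1))
  have m2 : y2 ∈ U := by
    rw [hU]; exact Or.inl ((mem_basicOpen_iff_notMem _ _).2 (by rw [hy2]; exact s2))
  obtain ⟨-, b1⟩ := h₁ ⟨y1, m1⟩ (by rw [mem_basicOpen_iff_notMem, not_not]; show _ ∈ (X.toSpecΓ y1).asIdeal; rw [hy1]; exact s1)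
  obtain ⟨-, b2⟩ := h₂ ⟨y2, m2⟩ (by rw [mem_basicOpen_iff_notMem, not_not]; show _ ∈ (X.toSpecΓ y2).asIdeal; rw [hy2]; exact t2)
  rw [← map_one U.ι.appTop.hom, ← map_add, ← mem_basicOpen_appTop, mem_basicOpen_iff_notMem, not_not] at b1
  rw [← mem_basicOpen_appTop, mem_basicOpen_iff_notMem, not_not] at b2
  change e + 1 ∈ (X.toSpecΓ y1).asIdeal at b1
  change e ∈ (X.toSpecΓ y2).asIdeal at b2
  rw [hy1] at b1
  rw [hy2] at b2
  refine (X.toSpecΓ y : PrimeSpectrum Γ(X, ⊤)).2.ne_top ((Ideal.eq_top_iff_one _).2 ?_)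
  have := Ideal.sub_mem _ (le1 b1) (le2 b2)
  simpa using this

end Groth.Agent.GaNotSC
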