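import Groth.Agent.GaNotSC.Orbit
import Groth.Agent.GaNotSC.Sections
import Mathlib.RingTheory.PowerSeries.Inverse

/-!
# The classifying stack of the additive group is not S-complete
-/

set_option autoImplicit false
set_option linter.style.haveILetI false
set_option backward.isDefEq.respectTransparency false
set_option backward.isDefEq.respectTransparency.types false
set_option synthInstance.maxHeartbeats 400000

universe u

open CategoryTheory CategoryTheory.Limits MonoidalCategory CartesianMonoidalCategory AlgebraicGeometry Opposite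
  TopologicalSpace

noncomputable section

namespace Groth.Agent.GaNotSC

variable (R : Type u) [CommRing R] (π : R)

/-- the complement of the node -/
def punct : (ThetaS.STSch R π).left.Opens := sOpen ⊔ tOpen

/-- the complement of the node over `R` -/
def punctSch : Over (Spec (CommRingCat.of R)) := Over.mk ((punct R π).ι ≫ (ThetaS.STSch R π).hom)

/-- its inclusion -/
def punctIncl : punctSch R π ⟶ ThetaS.STSch R π := Over.homMk (punct R π).ι rfl

/-- the tautological object -/
def objTot : (ThetaS.STR Scheme.fppfPrecoverage R π).obj :=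
  (AlgSt.quotMap Scheme.fppfPrecoverage (ThetaS.Gm R) (ThetaS.stAction R π)).obj ⟨ThetaS.STSch R π, ⟨𝟙 _⟩⟩

/-- the tautological object away from the node -/
def objPunct : (ThetaS.STR Scheme.fppfPrecoverage R π).obj :=
  (AlgSt.quotMap Scheme.fppfPrecoverage (ThetaS.Gm R) (ThetaS.stAction R π)).obj ⟨punctSch R π, ⟨punctIncl R π⟩⟩

/-- its map to the tautological object -/
def objIncl : objPunct R π ⟶ objTot R π :=
  (AlgSt.quotMap Scheme.fppfPrecoverage (ThetaS.Gm R) (ThetaS.stAction R π)).map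
    ⟨punctIncl R π, congrArg ULift.up (Category.comp_id (punctIncl R π))⟩

variable {R π}

theorem objPunct_phi_mem (p : (objPunct R π).P.left) :
    ((objPunct R π).φ.left p ∈ sOpen ↔ (punct R π).ι ((objPunct R π).π.left p) ∈ sOpen (R := R) (π := π)) ∧
      ((objPunct R π).φ.left p ∈ tOpen ↔ (punct R π).ι ((objPunct R π).π.left p) ∈ tOpen (R := R) (π := π)) := by
  have e : (objPunct R π).φ.left p = (ThetaS.stAction R π).act.left ((ThetaS.Gm R ◁ punctIncl R π).left p) := rfl
  have e2 : (punct R π).ι ((objPunct R π).π.left p) =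
      (snd (ThetaS.Gm R) (ThetaS.STSch R π)).left ((ThetaS.Gm R ◁ punctIncl R π).left p) :=
    congrArg (fun m : ThetaS.Gm R ⊗ punctSch R π ⟶ ThetaS.STSch R π => m.left p)
      (whiskerLeft_snd (ThetaS.Gm R) (punctIncl R π)).symm
  rw [e, e2]
  exact act_mem_iff _

theorem objPunct_missesNode : ThetaS.MissesNode (objPunct R π) := by
  refine eq_top_iff.2 fun p _ => ?_
  have h : (punct R π).ι ((objPunct R π).π.left p) ∈ sOpen ⊔ tOpen (R := R) (π := π) := ((objPunct R π).π.left p).2
  rcases h with h | h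
  · exact Or.inl ((mem_basicOpen_appTop _ _ _).1 ((objPunct_phi_mem p).1.2 h))
  · exact Or.inr ((mem_basicOpen_appTop _ _ _).1 ((objPunct_phi_mem p).2.2 h))

theorem mem_branch_objPunct (t : (objPunct R π).base.left) :
    (t ∈ branch (objPunct R π) sOpen ↔ (punct R π).ι t ∈ sOpen (R := R) (π := π)) ∧
      (t ∈ branch (objPunct R π) tOpen ↔ (punct R π).ι t ∈ tOpen (R := R) (π := π)) := by
  obtain ⟨p, rfl⟩ := surjective_proj (objPunct R π) t
  exact ⟨(mem_branch_iff _ _ (Or.inl rfl) p).trans (objPunct_phi_mem p).1,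
    (mem_branch_iff _ _ (Or.inr rfl) p).trans (objPunct_phi_mem p).2⟩

theorem exists_node [IsDomain R] [IsDiscreteValuationRing R] (hπ : Irreducible π) :
    ∃ x : (ThetaS.STSch R π).left, x ∉ sOpen (R := R) (π := π) ∧ x ∉ tOpen (R := R) (π := π) := by
  haveI := isPrime_span hπ.prime
  let a : ThetaS.STRing R π →ₐ[R] R ⧸ Ideal.span {π} := ThetaS.stPt 0 0 (by
    rw [zero_mul, Ideal.Quotient.algebraMap_eq, Ideal.Quotient.eq_zero_iff_mem.2 (Ideal.mem_span_singleton_self π)])
  let x : PrimeSpectrum (ThetaS.STRing R π) := ⟨RingHom.ker a, RingHom.ker_isPrime _⟩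
  refine ⟨x, ?_, ?_⟩
  · show (x : Spec (CommRingCat.of (ThetaS.STRing R π))) ∉ (Spec (CommRingCat.of (ThetaS.STRing R π))).basicOpen _
    rw [basicOpen_eq_of_affine]
    exact fun h => h (ThetaS.stPt_sFn _ _ _)
  · show (x : Spec (CommRingCat.of (ThetaS.STRing R π))) ∉ (Spec (CommRingCat.of (ThetaS.STRing R π))).basicOpen _
    rw [basicOpen_eq_of_affine]
    exact fun h => h (ThetaS.stPt_tFn _ _ _)

variable [IsDomain R] [IsDiscreteValuationRing R] {S : Scheme.{u}} (h : Spec (CommRingCat.of R) ⟶ S)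

theorem no_lift (hπ : Irreducible π)
    (G : ThetaS.ST Scheme.fppfPrecoverage R π h ⥤ᵇ AlgSt.BG Scheme.fppfPrecoverage (Red.Ga S))
    (i : BasedFunctor.comp (ThetaS.stIncl Scheme.fppfPrecoverage R π h) G ≅ torsorFunctor h) : False := by
  let O' : (ThetaS.stPunc Scheme.fppfPrecoverage R π h).obj := ⟨objPunct R π, objPunct_missesNode⟩
  let D := splitOf (objPunct R π) objPunct_missesNode
  let N := G.toFunctor.obj (objTot R π)
  let m : D.obj h ⟶ N := i.inv.toNatTrans.app O' ≫ G.toFunctor.map (objIncl R π)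
  have eN : N.base = (Over.map h).obj (ThetaS.STSch R π) := Functor.congr_obj G.w (objTot R π)
  let ψ : N.base.left ⟶ (ThetaS.STSch R π).left := (eqToHom eN).left
  have hm : m.base.left ≫ ψ = (punct R π).ι := by
    have e1 := Functor.congr_hom G.w (objIncl R π)
    have e2 := @IsHomLift.fac' _ _ _ _ _ _ _ _ _ (𝟙 _) (i.inv.toNatTrans.app O') (i.inv.isHomLift' O')
    change (G.toFunctor.map (objIncl R π)).base = _ at e1
    change (i.inv.toNatTrans.app O').base = _ at e2
    show ((i.inv.toNatTrans.app O').base ≫ (G.toFunctor.map (objIncl R π)).base ≫ eqToHom eN).left = _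
    rw [e1, e2]
    simp only [Category.assoc, eqToHom_trans, eqToHom_refl, Category.comp_id, Category.id_comp,
      eqToHom_trans_assoc]
    rfl
  obtain ⟨x, hxs, hxt⟩ := exists_node hπ
  obtain ⟨R₀, hR₀, hsec⟩ := N.loc
  obtain ⟨ι, V, v, rfl⟩ := Presieve.exists_eq_ofArrows R₀
  obtain ⟨hs, hP⟩ := (Scheme.ofArrows_mem_precoverage_iff (P := @Flat ⊓ @LocallyOfFinitePresentation)).1 hR₀
  haveI : IsIso ψ := inferInstanceAs (IsIso ((Over.forget S).map (eqToHom eN)))
  obtain ⟨x', rfl⟩ := ψ.homeomorph.surjective x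
  obtain ⟨j, y, rfl⟩ := hs x'
  obtain ⟨hflat, -⟩ := hP j
  obtain ⟨σ, hσ⟩ := hsec (v j) ⟨j⟩
  obtain ⟨O, hO, hy, -⟩ := exists_isAffineOpen_mem_and_subset (X := V j) (x := y) (U := ⊤) trivial
  haveI : IsAffine O.toScheme := hO
  let v' : O.toScheme ⟶ (ThetaS.STSch R π).left := O.ι ≫ v j ≫ ψ
  haveI : Flat v' := inferInstanceAs (Flat (O.ι ≫ v j ≫ ψ))
  let U : O.toScheme.Opens := v' ⁻¹ᵁ punct R π
  let b : U.toScheme ⟶ (punct R π).toScheme := v' ∣_ punct R π
  have hb : b ≫ (punct R π).ι = U.ι ≫ v' := morphismRestrict_ι _ _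
  let a : U.toScheme ⟶ N.P.left := U.ι ≫ O.ι ≫ σ
  have hab : a ≫ N.π.left = b ≫ m.base.left := by
    refine (cancel_mono ψ).1 ?_
    rw [Category.assoc b, hm, hb]
    simp only [a, v', Category.assoc]
    rw [← hσ]
    simp only [Category.assoc]
    rfl
  let q : U.toScheme ⟶ D.P := (m.cart.map (Over.forget S)).lift a b hab
  have hq : q ≫ D.pr = b := (m.cart.map (Over.forget S)).lift_snd a b hab
  have hmem : ∀ z : U.toScheme, ((q ≫ D.pr) z ∈ D.T₁ ↔ v' (U.ι z) ∈ sOpen (R := R) (π := π)) ∧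
      ((q ≫ D.pr) z ∈ D.T₂ ↔ v' (U.ι z) ∈ tOpen (R := R) (π := π)) := by
    intro z
    have e : (punct R π).ι (b z) = v' (U.ι z) := congrArg (fun f : U.toScheme ⟶ _ => f z) hb
    rw [hq, ← e]
    exact mem_branch_objPunct (b z)
  have rel0 : ∀ z : U.toScheme, ¬ ((q ≫ D.pr) z ∈ D.T₁ ∧ (q ≫ D.pr) z ∈ D.T₂) →
      z ∈ U.toScheme.basicOpen (q.appTop D.w) → z ∉ U.toScheme.basicOpen (q.appTop D.w + 1) := by
    intro z hz hw hw1
    have hc : ev z (cst ((q ≫ D.pr) ≫ D.g) π) = 0 := by
      by_contra hne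
      exact hz ((D.mem_inter _ z).2 hne)
    have e := congrArg (ev z) (D.rel_pt q)
    rw [map_mul, map_mul, hc, zero_mul] at e
    rw [mem_basicOpen_iff] at hw hw1
    exact (mul_ne_zero hw hw1) e.symm
  refine no_section hπ v' ⟨y, hy⟩ ?_ ?_ U ?_ (q.appTop D.w) (fun z hz => ?_) (fun z hz => ?_)
  · rw [← mem_basicOpen_appTop]; exact hxs
  · rw [← mem_basicOpen_appTop]; exact hxt
  · show v' ⁻¹ᵁ (sOpen ⊔ tOpen) = _
    simp only [sOpen, tOpen, Scheme.Hom.preimage_sup, Scheme.Hom.preimage_basicOpen_top]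
    rfl
  · rw [← mem_basicOpen_appTop] at hz
    have n1 : (q ≫ D.pr) z ∉ D.T₁ := fun e => hz ((hmem z).1.1 e)
    have hw := ((D.good_pt q z).resolve_left fun e => n1 e.1).2
    exact ⟨hw, rel0 z (fun e => n1 e.1) hw⟩
  · rw [← mem_basicOpen_appTop] at hz
    have n2 : (q ≫ D.pr) z ∉ D.T₂ := fun e => hz ((hmem z).2.1 e)
    have hw := ((D.good_pt q z).resolve_right fun e => n2 e.1).2
    exact ⟨hw, fun h0 => rel0 z (fun e => n2 e.2) h0 hw⟩

/-- The classifying stack of the additive group over a field is not S-complete. -/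
theorem not_sComplete (k : Type u) [Field k] :
    ¬ ThetaS.IsSCompleteOver Scheme.fppfPrecoverage
        (AlgSt.BG Scheme.fppfPrecoverage (Red.Ga (Spec (CommRingCat.of k)))) := by
  intro H
  have irr : Irreducible (PowerSeries.X : PowerSeries k) := PowerSeries.X_prime.irreducible
  let h : Spec (CommRingCat.of (PowerSeries k)) ⟶ Spec (CommRingCat.of k) :=
    Spec.map (CommRingCat.ofHom (PowerSeries.C (R := k)))
  obtain ⟨⟨d⟩, -⟩ := H (PowerSeries k) PowerSeries.X irr h
    { top := torsorFunctor h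
      bot := FibCat.toSelf _
      iso := Iso.refl _ }
  exact no_lift h irr d.fn d.isoTop

end Groth.Agent.GaNotSC
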