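import Groth.Agent.GaNotSC.Torsor
import Mathlib.CategoryTheory.Limits.Constructions.Over.Connected
import Mathlib.CategoryTheory.Limits.Preserves.Shapes.Pullbacks

/-!
# The two branches of an object missing the node
-/

set_option autoImplicit false
set_option linter.style.haveILetI false
set_option backward.isDefEq.respectTransparency false
set_option backward.isDefEq.respectTransparency.types false
set_option synthInstance.maxHeartbeats 400000

universe u

open CategoryTheory CategoryTheory.Limits MonoidalCategory CartesianMonoidalCategory AlgebraicGeometry Opposite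
  TopologicalSpace

noncomputable section

namespace Groth.Agent.GaNotSC

variable {R : Type u} [CommRing R] {π : R}

theorem exists_pt_eq {B K : Type u} [CommRing B] [Algebra R B] [CommRing K] [Algebra R K]
    (x : CoactBr.sp R K ⟶ CoactBr.sp R B) : ∃ φ : B →ₐ[R] K, x = CoactBr.pt φ := by
  obtain ⟨ψ, hψ⟩ : ∃ ψ : CommRingCat.of B ⟶ CommRingCat.of K, Spec.map ψ = x.left := ⟨_, Spec.map_preimage _⟩
  have e : CommRingCat.ofHom (algebraMap R B) ≫ ψ = CommRingCat.ofHom (algebraMap R K) := by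
    apply Spec.map_injective
    rw [Spec.map_comp, hψ]
    exact Over.w x
  exact ⟨{ ψ.hom with commutes' := fun r => congrArg (fun g => g.hom r) e }, Over.OverMorphism.ext hψ.symm⟩

theorem pt_mem_basicOpen {B K : Type u} [CommRing B] [Algebra R B] [Field K] [Algebra R K] (φ : B →ₐ[R] K) (f : B)
    (y : (CoactBr.sp R K).left) :
    (CoactBr.pt φ).left y ∈ (CoactBr.sp R B).left.basicOpen
      ((Scheme.ΓSpecIso (CommRingCat.of B)).inv f : Γ((CoactBr.sp R B).left, ⊤)) ↔ φ f ≠ 0 := by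
  show Spec.map (CommRingCat.ofHom φ.toRingHom) y ∈ (Spec (CommRingCat.of B)).basicOpen _ ↔ _
  rw [basicOpen_eq_of_affine]
  show f ∉ Ideal.comap φ.toRingHom (y : PrimeSpectrum K).asIdeal ↔ _
  rw [Ideal.mem_comap, Ideal.eq_bot_of_prime (y : PrimeSpectrum K).asIdeal, Ideal.mem_bot]
  rfl

/-- the branch `s ≠ 0` -/
def sOpen : (ThetaS.STSch R π).left.Opens := (ThetaS.STSch R π).left.basicOpen (ThetaS.stFn (ThetaS.sFn R π))

/-- the branch `t ≠ 0` -/
def tOpen : (ThetaS.STSch R π).left.Opens := (ThetaS.STSch R π).left.basicOpen (ThetaS.stFn (ThetaS.tFn R π))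

theorem lam_ne_zero {K : Type u} [Field K] [Algebra R K] (lam : ThetaS.Lau R →ₐ[R] K) (n : ℤ) :
    lam (ThetaS.zPow R n) ≠ 0 := fun e => by
  have h := congrArg lam (show ThetaS.zPow R n * ThetaS.zPow R (-n) = 1 by
    rw [ThetaS.zPow_mul, add_neg_cancel, ThetaS.zPow_zero])
  rw [map_mul, e, zero_mul, map_one] at h
  exact zero_ne_one h

theorem act_mem_iff (q : (ThetaS.Gm R ⊗ ThetaS.STSch R π).left) :
    ((ThetaS.stAction R π).act.left q ∈ sOpen ↔ (snd (ThetaS.Gm R) (ThetaS.STSch R π)).left q ∈ sOpen (R := R) (π := π)) ∧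
      ((ThetaS.stAction R π).act.left q ∈ tOpen ↔ (snd (ThetaS.Gm R) (ThetaS.STSch R π)).left q ∈ tOpen (R := R) (π := π)) := by
  let Y := (ThetaS.Gm R ⊗ ThetaS.STSch R π).left
  let K : Type u := Y.residueField q
  let g : CommRingCat.of R ⟶ CommRingCat.of K :=
    Spec.preimage (Y.fromSpecResidueField q ≫ (ThetaS.Gm R ⊗ ThetaS.STSch R π).hom)
  letI : Algebra R K := g.hom.toAlgebra
  let x : CoactBr.sp R K ⟶ ThetaS.Gm R ⊗ ThetaS.STSch R π := Over.homMk (Y.fromSpecResidueField q) (by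
    refine Eq.trans ?_ (show Spec.map g = _ from rfl)
    exact (Spec.map_preimage _).symm)
  let y₀ : (CoactBr.sp R K).left := IsLocalRing.closedPoint K
  have hy : x.left y₀ = q := Scheme.fromSpecResidueField_apply _ _
  obtain ⟨lam, hlam⟩ := exists_pt_eq (x ≫ fst _ _ : CoactBr.sp R K ⟶ CoactBr.sp R (ThetaS.Lau R))
  obtain ⟨α, hα⟩ := exists_pt_eq (x ≫ snd _ _)
  let a := α (ThetaS.sFn R π)
  let b := α (ThetaS.tFn R π)
  have hab : a * b = algebraMap R K π := by rw [← map_mul, ThetaS.sFn_mul_tFn, AlgHom.commutes]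
  have hα' : α = ThetaS.stPt a b hab := ThetaS.stRing_algHom_ext (by simp [a, ThetaS.stPt]) (by simp [b, ThetaS.stPt])
  have hx : x ≫ (ThetaS.stAction R π).act = CoactBr.pt (ThetaS.stPt (π := π) (lam (ThetaS.zPow R 1) * a)
      (lam (ThetaS.zPow R (-1)) * b) (by
        rw [_root_.mul_mul_mul_comm, ← map_mul, ThetaS.zPow_mul, hab, show (1 : ℤ) + -1 = 0 from by norm_num,
          ThetaS.zPow_zero, map_one, one_mul])) := by
    rw [← ThetaS.stAction_pt (π := π) lam a b hab, ← hα', ← hlam, ← hα]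
    congr 1
    exact CartesianMonoidalCategory.hom_ext _ _ (by rw [lift_fst]) (by rw [lift_snd])
  have e1 : ∀ (m : ThetaS.Gm R ⊗ ThetaS.STSch R π ⟶ ThetaS.STSch R π), m.left q = (x ≫ m).left y₀ :=
    fun m => (congrArg m.left hy).symm
  rw [e1, e1, hx, hα]
  constructor
  · rw [sOpen, pt_mem_basicOpen, pt_mem_basicOpen]
    show ThetaS.stPt _ _ _ (Ideal.Quotient.mk _ _) ≠ 0 ↔ a ≠ 0
    simp [ThetaS.stPt, lam_ne_zero]
  · rw [tOpen, pt_mem_basicOpen, pt_mem_basicOpen]
    show ThetaS.stPt _ _ _ (Ideal.Quotient.mk _ _) ≠ 0 ↔ b ≠ 0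
    simp [ThetaS.stPt, lam_ne_zero]

variable {K : Precoverage Scheme.{u}}

/-- two points of an object over the same point of the base are related by the action -/
theorem exists_orbit (A : (ThetaS.STR K R π).obj) (p p' : A.P.left) (h : A.π.left p = A.π.left p') :
    ∃ q : (ThetaS.Gm R ⊗ A.P).left, A.act.act.left q = p ∧ (snd (ThetaS.Gm R) A.P).left q = p' := by
  have hc := A.cart.map (Over.forget (Spec (CommRingCat.of R)))
  obtain ⟨w, hw1, hw2⟩ := Scheme.Pullback.exists_preimage_pullback (f := A.π.left) (g := A.π.left) p p' h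
  refine ⟨hc.isoPullback.inv w, ?_, ?_⟩
  · show ((Over.forget _).map A.act.act) (hc.isoPullback.inv w) = p
    rw [← Scheme.Hom.comp_apply, hc.isoPullback_inv_fst]
    exact hw1
  · show ((Over.forget _).map (snd (ThetaS.Gm R) A.P)) (hc.isoPullback.inv w) = p'
    rw [← Scheme.Hom.comp_apply, hc.isoPullback_inv_snd]
    exact hw2

theorem phi_invariant (A : (ThetaS.STR K R π).obj) (p p' : A.P.left) (h : A.π.left p = A.π.left p') :
    (A.φ.left p ∈ sOpen ↔ A.φ.left p' ∈ sOpen (R := R) (π := π)) ∧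
      (A.φ.left p ∈ tOpen ↔ A.φ.left p' ∈ tOpen (R := R) (π := π)) := by
  obtain ⟨q, rfl, rfl⟩ := exists_orbit A p p' h
  have e1 : A.φ.left (A.act.act.left q) = (ThetaS.stAction R π).act.left ((ThetaS.Gm R ◁ A.φ).left q) :=
    congrArg (fun m : ThetaS.Gm R ⊗ A.P ⟶ ThetaS.STSch R π => m.left q) A.eqv
  have e2 : A.φ.left ((snd (ThetaS.Gm R) A.P).left q) =
      (snd (ThetaS.Gm R) (ThetaS.STSch R π)).left ((ThetaS.Gm R ◁ A.φ).left q) :=
    congrArg (fun m : ThetaS.Gm R ⊗ A.P ⟶ ThetaS.STSch R π => m.left q) (whiskerLeft_snd (ThetaS.Gm R) A.φ).symm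
  rw [e1, e2]
  exact act_mem_iff _

/-- the image of a branch in the base -/
def branch (A : (ThetaS.STR K R π).obj) (U : (ThetaS.STSch R π).left.Opens) : Set A.base.left :=
  A.π.left '' (A.φ.left ⁻¹' U)

theorem mem_branch_iff (A : (ThetaS.STR K R π).obj) (U : (ThetaS.STSch R π).left.Opens)
    (hU : U = sOpen ∨ U = tOpen) (p : A.P.left) : A.π.left p ∈ branch A U ↔ A.φ.left p ∈ U := by
  refine ⟨?_, fun h => ⟨p, h, rfl⟩⟩
  rintro ⟨p', hp', e⟩
  rcases hU with rfl | rfl
  · exact (phi_invariant A p' p e).1.1 hp'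
  · exact (phi_invariant A p' p e).2.1 hp'

section Fppf

variable (A : (ThetaS.STR Scheme.fppfPrecoverage R π).obj)

theorem exists_cover : ∃ (ι : Type (u + 1)) (V : ι → Scheme.{u}) (v : ∀ i, V i ⟶ A.base.left)
    (σ : ∀ i, V i ⟶ A.P.left), (∀ i, IsOpenMap (v i).base) ∧ (∀ t, ∃ i, t ∈ Set.range (v i)) ∧
      ∀ i, σ i ≫ A.π.left = v i := by
  obtain ⟨R₀, hR₀, hsec⟩ := A.loc
  obtain ⟨ι, V, v, rfl⟩ := Presieve.exists_eq_ofArrows R₀
  obtain ⟨hs, hP⟩ := (Scheme.ofArrows_mem_precoverage_iff (P := @Flat ⊓ @LocallyOfFinitePresentation)).1 hR₀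
  choose σ hσ using fun i => hsec (v i) ⟨i⟩
  refine ⟨ι, V, v, σ, fun i => ?_, hs, hσ⟩
  obtain ⟨hf, hl⟩ := hP i
  exact (v i).isOpenMap

theorem surjective_proj (t : A.base.left) : ∃ p : A.P.left, A.π.left p = t := by
  obtain ⟨ι, V, v, σ, -, hs, hσ⟩ := exists_cover A
  obtain ⟨i, y, rfl⟩ := hs t
  exact ⟨σ i y, by rw [← Scheme.Hom.comp_apply, hσ]⟩

theorem isOpen_branch (U : (ThetaS.STSch R π).left.Opens) (hU : U = sOpen ∨ U = tOpen) : IsOpen (branch A U) := by
  obtain ⟨ι, V, v, σ, ho, hs, hσ⟩ := exists_cover A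
  have : branch A U = ⋃ i, v i '' ((σ i ≫ A.φ.left) ⁻¹' U) := by
    ext t
    simp only [Set.mem_iUnion, Set.mem_image, Set.mem_preimage]
    refine ⟨fun ht => ?_, ?_⟩
    · obtain ⟨i, y, rfl⟩ := hs t
      refine ⟨i, y, ?_, rfl⟩
      rw [Scheme.Hom.comp_apply]
      refine (mem_branch_iff A U hU _).1 ?_
      rwa [← Scheme.Hom.comp_apply, hσ]
    · rintro ⟨i, y, hy, rfl⟩
      rw [← hσ i, Scheme.Hom.comp_apply]
      exact ⟨_, by rw [Set.mem_preimage, ← Scheme.Hom.comp_apply]; exact hy, rfl⟩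
  rw [this]
  exact isOpen_iUnion fun i => ho i _ ((σ i ≫ A.φ.left).continuous.isOpen_preimage _ U.2)

/-- the split base of an object missing the node -/
def splitOf (hA : ThetaS.MissesNode A) : Split π where
  T := A.base.left
  g := A.base.hom
  T₁ := ⟨branch A sOpen, isOpen_branch A _ (Or.inl rfl)⟩
  T₂ := ⟨branch A tOpen, isOpen_branch A _ (Or.inr rfl)⟩
  cover t := by
    obtain ⟨p, rfl⟩ := surjective_proj A t
    have hp : p ∈ A.P.left.basicOpen (A.φ.left.appTop (ThetaS.stFn (ThetaS.sFn R π))) ⊔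
        A.P.left.basicOpen (A.φ.left.appTop (ThetaS.stFn (ThetaS.tFn R π))) := by rw [hA]; trivial
    rcases hp with hp | hp
    · exact Or.inl ⟨p, (mem_basicOpen_appTop _ _ _).2 hp, rfl⟩
    · exact Or.inr ⟨p, (mem_basicOpen_appTop _ _ _).2 hp, rfl⟩
  inter := by
    ext t
    obtain ⟨p, rfl⟩ := surjective_proj A t
    show (A.π.left p ∈ branch A sOpen ∧ A.π.left p ∈ branch A tOpen) ↔ _
    rw [mem_branch_iff A _ (Or.inl rfl), mem_branch_iff A _ (Or.inr rfl)]
    show _ ↔ A.π.left p ∈ A.base.left.basicOpen (cst A.base.hom π)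
    rw [mem_basicOpen_appTop, ← cst_comp, Over.w A.π, ← Over.w A.φ, cst_comp, ← mem_basicOpen_appTop]
    have e : cst (ThetaS.STSch R π).hom π =
        ThetaS.stFn (ThetaS.sFn R π) * ThetaS.stFn (ThetaS.tFn R π) := by
      show _ = (Scheme.ΓSpecIso _).inv _ * (Scheme.ΓSpecIso _).inv _
      rw [← map_mul, ThetaS.sFn_mul_tFn]
      exact ConcreteCategory.congr_hom
        (Scheme.ΓSpecIso_inv_naturality (CommRingCat.ofHom (algebraMap R (ThetaS.STRing R π)))).symm π
    rw [e, Scheme.basicOpen_mul]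
    rfl

end Fppf

variable {S : Scheme.{u}} (h : Spec (CommRingCat.of R) ⟶ S)

theorem mem_branch_map {A B : (ThetaS.STR Scheme.fppfPrecoverage R π).obj} (f : A ⟶ B)
    (U : (ThetaS.STSch R π).left.Opens) (hU : U = sOpen ∨ U = tOpen) (t : A.base.left) :
    f.base.left t ∈ branch B U ↔ t ∈ branch A U := by
  obtain ⟨p, rfl⟩ := surjective_proj A t
  have e : f.base.left (A.π.left p) = B.π.left (f.top.left p) :=
    congrArg (fun m : A.P ⟶ B.base => m.left p) f.cart.w.symm
  have e2 : B.φ.left (f.top.left p) = A.φ.left p := congrArg (fun m : A.P ⟶ ThetaS.STSch R π => m.left p) f.wφ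
  rw [e, mem_branch_iff B U hU, mem_branch_iff A U hU, e2]

/-- the morphism of split bases of a morphism -/
def splitHomOf {A B : (ThetaS.STR Scheme.fppfPrecoverage R π).obj} (hA : ThetaS.MissesNode A) (hB : ThetaS.MissesNode B)
    (f : A ⟶ B) : SplitHom (splitOf A hA) (splitOf B hB) where
  f := f.base.left
  w := Over.w f.base
  mem₁ := mem_branch_map f _ (Or.inl rfl)
  mem₂ := mem_branch_map f _ (Or.inr rfl)

/-- The functor from the punctured stack to the classifying stack of the additive group. -/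
def torsorFunctor :
    ThetaS.stPunc Scheme.fppfPrecoverage R π h ⥤ᵇ AlgSt.BG Scheme.fppfPrecoverage (Red.Ga S) where
  toFunctor :=
    { obj := fun A => (splitOf A.obj A.property).obj h
      map := fun {A B} f => (splitHomOf A.property B.property f.hom).map h
      map_id := fun A => AlgSt.QuotObj.hom_ext rfl (Over.OverMorphism.ext
        ((splitOf A.obj A.property).hom_ext
          ((SplitHom.top_pr _).trans ((Category.comp_id _).trans (Category.id_comp _).symm))
          (SplitHom.top_w' _) (SplitHom.top_z' _)))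
      map_comp := fun {A B C} f g => AlgSt.QuotObj.hom_ext (Over.OverMorphism.ext rfl) (Over.OverMorphism.ext
        ((splitOf C.obj C.property).hom_ext (by
            show SplitHom.top _ ≫ _ = (SplitHom.top _ ≫ SplitHom.top _) ≫ _
            rw [SplitHom.top_pr, Category.assoc, SplitHom.top_pr, ← Category.assoc, SplitHom.top_pr, Category.assoc]
            rfl)
          ((SplitHom.top_w' _).trans ((SplitHom.top_w _ (splitHomOf A.property B.property f.hom).top).trans
            (SplitHom.top_w' _)).symm)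
          ((SplitHom.top_z' _).trans ((SplitHom.top_z _ (splitHomOf A.property B.property f.hom).top).trans
            (SplitHom.top_z' _)).symm))) }
  w := rfl

end Groth.Agent.GaNotSC
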