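import Groth.Agent.GaNotSC.Translate
import Groth.Agent.GrpSchLib.GaPts
import Groth.Prelude.Def_ThetaS

/-!
# The additive torsor of a split base
-/

set_option autoImplicit false
set_option linter.style.haveILetI false
set_option backward.isDefEq.respectTransparency false
set_option backward.isDefEq.respectTransparency.types false
set_option synthInstance.maxHeartbeats 400000

universe u

open CategoryTheory CategoryTheory.Limits MonoidalCategory CartesianMonoidalCategory MonObj AlgebraicGeometry Opposite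
  TopologicalSpace

noncomputable section

namespace Groth.Agent.GaNotSC

open GrpSchLib.GaPts

variable {R : Type u} [CommRing R] {c : R} {S : Scheme.{u}} (h : Spec (CommRingCat.of R) ⟶ S)

/-- the split base as a scheme over `S` -/
abbrev Split.base (D : Split c) : Over S := Over.mk (D.g ≫ h)

/-- the torsor as a scheme over `S` -/
abbrev Split.tot (D : Split c) : Over S := Over.mk (D.pr ≫ D.g ≫ h)

theorem Split.translate_hom (D : Split c) {Y : Over S} (q : Y ⟶ D.tot h) (l : Γ(Y.left, ⊤)) :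
    D.translate q.left l ≫ (D.tot h).hom = Y.hom := by
  show D.translate q.left l ≫ D.pr ≫ D.g ≫ h = _
  rw [D.translate_pr_assoc]
  exact Over.w q

/-- the action -/
def Split.actHom (D : Split c) : Red.Ga S ⊗ D.tot h ⟶ D.tot h :=
  Over.homMk (D.translate (snd (Red.Ga S) (D.tot h)).left (Red.gaFn (fst (Red.Ga S) (D.tot h))))
    (D.translate_hom h _ _)

theorem Split.comp_actHom (D : Split c) {Y : Over S} (x : Y ⟶ Red.Ga S ⊗ D.tot h) :
    (x ≫ D.actHom h).left = D.translate (x ≫ snd _ _).left (Red.gaFn (x ≫ fst _ _)) := by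
  show x.left ≫ D.translate _ _ = _
  rw [D.comp_translate, gaFn_comp]
  rfl

/-- the action of the additive group -/
def Split.act (D : Split c) : AlgGrp.Action (Red.Ga S) (D.tot h) where
  act := D.actHom h
  one_act := by
    refine Over.OverMorphism.ext ?_
    have e1 : (η[Red.Ga S] ▷ D.tot h) ≫ fst _ _ = 1 := by
      rw [whiskerRight_fst, toUnit_unique (fst _ _) (toUnit _), ← Hom.one_def]
    rw [D.comp_actHom, e1, gaFn_one, D.translate_zero, whiskerRight_snd, leftUnitor_hom]
  mul_act := by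
    refine Over.OverMorphism.ext ?_
    rw [← Category.assoc (α_ _ _ _).hom, D.comp_actHom, D.comp_actHom]
    have e1 : (μ[Red.Ga S] ▷ D.tot h) ≫ fst _ _ =
        (fst _ _ ≫ fst (Red.Ga S) (Red.Ga S)) * (fst _ _ ≫ snd (Red.Ga S) (Red.Ga S)) := by
      rw [whiskerRight_fst, Hom.mul_def, ← comp_lift, lift_fst_snd, Category.comp_id]
    rw [e1, gaFn_mul, D.translate_add, whiskerRight_snd]
    simp only [Category.assoc, whiskerLeft_fst, whiskerLeft_snd, associator_hom_fst, associator_hom_snd_fst,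
      associator_hom_snd_snd]
    rw [← Category.assoc, D.comp_actHom]
    simp only [Category.assoc, associator_hom_snd_fst, associator_hom_snd_snd]

/-- the projection -/
def Split.proj (D : Split c) : D.tot h ⟶ D.base h := Over.homMk D.pr rfl

theorem Split.isPullback_act (D : Split c) :
    IsPullback (D.act h).act (snd (Red.Ga S) (D.tot h)) (D.proj h) (D.proj h) := by
  have w : (D.act h).act ≫ D.proj h = snd (Red.Ga S) (D.tot h) ≫ D.proj h := by
    refine Over.OverMorphism.ext ?_
    show D.translate _ _ ≫ D.pr = _ ≫ D.pr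
    exact D.translate_pr _ _
  have key : ∀ s : PullbackCone (D.proj h) (D.proj h), ∃! l : Γ(s.pt.left, ⊤), D.translate s.snd.left l = s.fst.left :=
    fun s => D.existsUnique_translate _ _ (congrArg CommaMorphism.left s.condition)
  choose l hl hu using key
  refine ⟨⟨w⟩, ⟨PullbackCone.IsLimit.mk w (fun s => lift (ptOfFn (l s)) s.snd) (fun s => ?_)
    (fun s => lift_snd _ _) fun s m hm1 hm2 => ?_⟩⟩
  · refine Over.OverMorphism.ext ?_
    show (_ ≫ D.actHom h).left = _
    rw [D.comp_actHom, lift_fst, lift_snd, gaFn_ptOfFn]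
    exact hl s
  · refine CartesianMonoidalCategory.hom_ext _ _ ?_ ?_
    · rw [lift_fst]
      refine gaFn_injective ?_
      show Red.gaFn (m ≫ fst _ _) = Red.gaFn (ptOfFn (l s))
      rw [gaFn_ptOfFn]
      refine hu s _ ?_
      have e := congrArg CommaMorphism.left hm1
      change (m ≫ D.actHom h).left = _ at e
      rw [D.comp_actHom, hm2] at e
      exact e
    · rw [lift_snd]; exact hm2

theorem Split.exists_section₁ (D : Split c) : ∃ s : (D.T₁ : Scheme.{u}) ⟶ D.P, s ≫ D.pr = D.T₁.ι :=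
  ⟨D.mk' D.T₁.ι 0 0 (by simp) (fun y => Or.inl ⟨y.2, by rw [zero_add, mem_basicOpen_iff, map_one]; exact one_ne_zero⟩),
    D.mk'_pr _ _ _ _ _⟩

theorem Split.exists_section₂ (D : Split c) : ∃ s : (D.T₂ : Scheme.{u}) ⟶ D.P, s ≫ D.pr = D.T₂.ι :=
  ⟨D.mk' D.T₂.ι (-1) 0 (by simp)
      (fun y => Or.inr ⟨y.2, by rw [mem_basicOpen_iff, map_neg, map_one]; exact neg_ne_zero.2 one_ne_zero⟩),
    D.mk'_pr _ _ _ _ _⟩

theorem Split.loc (D : Split c) :
    NonAbH1.IsLocallyTrivialFor Scheme.fppfPrecoverage (Over.mk (D.proj h).left : Over (D.base h).left) := by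
  let U : ULift.{u} Bool → D.T.Opens := fun b => if b.down then D.T₁ else D.T₂
  refine ⟨.ofArrows (fun b => ((U b) : Scheme.{u})) (fun b => (U b).ι), ?_, ?_⟩
  · refine (Scheme.ofArrows_mem_precoverage_iff (P := @Flat ⊓ @LocallyOfFinitePresentation)).2 ⟨fun t => ?_,
      fun b => ⟨inferInstance, inferInstance⟩⟩
    rcases D.cover t with h | h
    · exact ⟨⟨true⟩, ⟨t, h⟩, rfl⟩
    · exact ⟨⟨false⟩, ⟨t, h⟩, rfl⟩
  · rintro _ _ ⟨⟨_ | _⟩⟩
    · exact D.exists_section₂
    · exact D.exists_section₁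

/-- the torsor, as an object of the classifying stack -/
def Split.obj (D : Split c) :
    (AlgSt.BG Scheme.fppfPrecoverage (Red.Ga S)).obj where
  base := D.base h
  P := D.tot h
  act := D.act h
  π := D.proj h
  cart := D.isPullback_act h
  loc := D.loc h
  φ := toUnit _
  eqv := toUnit_unique _ _

/-- morphisms of split bases -/
@[ext]
structure SplitHom (D' D : Split c) where
  f : D'.T ⟶ D.T
  w : f ≫ D.g = D'.g
  mem₁ : ∀ t, f t ∈ D.T₁ ↔ t ∈ D'.T₁
  mem₂ : ∀ t, f t ∈ D.T₂ ↔ t ∈ D'.T₂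

variable {D' D : Split c}

theorem SplitHom.good_iff (m : SplitHom D' D) {Y : Scheme.{u}} (a : Y ⟶ D'.T) (w : Γ(Y, ⊤)) (y : Y) :
    D.Good (a ≫ m.f) w y ↔ D'.Good a w y := by
  rw [Split.Good, Split.Good, Scheme.Hom.comp_apply, m.mem₁, m.mem₂]

/-- the map of torsors -/
def SplitHom.top (m : SplitHom D' D) : D'.P ⟶ D.P :=
  D.mk' (D'.pr ≫ m.f) D'.w D'.z (by rw [Category.assoc, m.w]; exact D'.rel) (fun y => (m.good_iff _ _ y).2 (D'.good y))

theorem SplitHom.top_pr (m : SplitHom D' D) : m.top ≫ D.pr = D'.pr ≫ m.f := D.mk'_pr _ _ _ _ _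

theorem SplitHom.top_w (m : SplitHom D' D) {Y : Scheme.{u}} (q : Y ⟶ D'.P) :
    (q ≫ m.top).appTop D.w = q.appTop D'.w := by
  rw [Scheme.Hom.comp_appTop, CommRingCat.comp_apply]
  exact congrArg _ (D.mk'_w _ _ _ _ _)

theorem SplitHom.top_z (m : SplitHom D' D) {Y : Scheme.{u}} (q : Y ⟶ D'.P) :
    (q ≫ m.top).appTop D.z = q.appTop D'.z := by
  rw [Scheme.Hom.comp_appTop, CommRingCat.comp_apply]
  exact congrArg _ (D.mk'_z _ _ _ _ _)

theorem SplitHom.top_w' (m : SplitHom D' D) : m.top.appTop D.w = D'.w := D.mk'_w _ _ _ _ _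

theorem SplitHom.top_z' (m : SplitHom D' D) : m.top.appTop D.z = D'.z := D.mk'_z _ _ _ _ _

theorem SplitHom.translate_top (m : SplitHom D' D) {Y : Scheme.{u}} (q : Y ⟶ D'.P) (l : Γ(Y, ⊤)) :
    D'.translate q l ≫ m.top = D.translate (q ≫ m.top) l := by
  have e : cst (((q ≫ m.top) ≫ D.pr) ≫ D.g) c = cst ((q ≫ D'.pr) ≫ D'.g) c := by
    rw [Category.assoc q, m.top_pr, Category.assoc, Category.assoc, Category.assoc, m.w]
  refine D.hom_ext ?_ ?_ ?_
  · rw [Category.assoc, m.top_pr, ← Category.assoc, D'.translate_pr, D.translate_pr, Category.assoc, Category.assoc,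
      m.top_pr]
  · rw [m.top_w, D.translate_w, D'.translate_w, m.top_w, e]
  · rw [m.top_z, D.translate_z, D'.translate_z, m.top_w, m.top_z, e]

/-- the base map over `S` -/
def SplitHom.base (m : SplitHom D' D) : D'.base h ⟶ D.base h :=
  Over.homMk m.f (by show m.f ≫ D.g ≫ h = _; rw [← Category.assoc, m.w]; rfl)

/-- the map of torsors over `S` -/
def SplitHom.topHom (m : SplitHom D' D) : D'.tot h ⟶ D.tot h :=
  Over.homMk m.top (by
    show m.top ≫ D.pr ≫ D.g ≫ h = D'.pr ≫ D'.g ≫ h
    rw [← Category.assoc, m.top_pr, Category.assoc, ← Category.assoc m.f, m.w])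

theorem SplitHom.eqv (m : SplitHom D' D) :
    D'.actHom h ≫ m.topHom h = (Red.Ga S ◁ m.topHom h) ≫ D.actHom h := by
  refine Over.OverMorphism.ext ?_
  rw [D.comp_actHom, whiskerLeft_fst, whiskerLeft_snd]
  exact m.translate_top _ _

/-- the morphism of torsors -/
def SplitHom.map (m : SplitHom D' D) : D'.obj h ⟶ D.obj h where
  base := m.base h
  top := m.topHom h
  eqv := m.eqv h
  cart := by
    have e : ∀ s : PullbackCone (D.proj h) (m.base h), s.fst.left ≫ D.pr = s.snd.left ≫ m.f :=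
      fun s => congrArg CommaMorphism.left s.condition
    have h1 : ∀ s : PullbackCone (D.proj h) (m.base h), cst (s.snd.left ≫ D'.g) c * s.fst.left.appTop D.z =
        s.fst.left.appTop D.w * (s.fst.left.appTop D.w + 1) := fun s => by
      have h2 := D.rel_pt s.fst.left
      rw [e s, Category.assoc, m.w] at h2
      exact h2
    have h2 : ∀ (s : PullbackCone (D.proj h) (m.base h)) (y : s.pt.left),
        D'.Good s.snd.left (s.fst.left.appTop D.w) y := fun s y => by
      have h3 := D.good_pt s.fst.left y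
      rw [e s] at h3
      exact (m.good_iff _ _ y).1 h3
    have h3 : ∀ s : PullbackCone (D.proj h) (m.base h),
        D'.mk' s.snd.left (s.fst.left.appTop D.w) (s.fst.left.appTop D.z) (h1 s) (h2 s) ≫ D'.pr ≫ D'.g ≫ h = s.pt.hom :=
      fun s => by
        rw [D'.mk'_pr_assoc]
        exact Over.w s.snd
    refine ⟨⟨Over.OverMorphism.ext m.top_pr⟩, ⟨PullbackCone.IsLimit.mk (Over.OverMorphism.ext m.top_pr)
      (fun s => Over.homMk (D'.mk' s.snd.left (s.fst.left.appTop D.w) (s.fst.left.appTop D.z) (h1 s) (h2 s)) (h3 s))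
      (fun s => ?_) (fun s => Over.OverMorphism.ext (D'.mk'_pr _ _ _ (h1 s) (h2 s))) fun s n hn1 hn2 => ?_⟩⟩
    · refine Over.OverMorphism.ext (D.hom_ext ?_ ?_ ?_)
      · show (D'.mk' _ _ _ (h1 s) (h2 s) ≫ m.top) ≫ D.pr = _
        rw [Category.assoc, m.top_pr, D'.mk'_pr_assoc]
        exact (congrArg CommaMorphism.left s.condition).symm
      · exact (m.top_w _).trans (D'.mk'_w _ _ _ (h1 s) (h2 s))
      · exact (m.top_z _).trans (D'.mk'_z _ _ _ (h1 s) (h2 s))
    · refine Over.OverMorphism.ext (D'.hom_ext ?_ ?_ ?_)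
      · exact ((congrArg CommaMorphism.left hn2).trans (D'.mk'_pr _ _ _ (h1 s) (h2 s)).symm)
      · refine ((m.top_w n.left).symm.trans ?_).trans (D'.mk'_w _ _ _ (h1 s) (h2 s)).symm
        exact congrArg (fun x => Scheme.Hom.appTop x D.w) (congrArg CommaMorphism.left hn1)
      · refine ((m.top_z n.left).symm.trans ?_).trans (D'.mk'_z _ _ _ (h1 s) (h2 s)).symm
        exact congrArg (fun x => Scheme.Hom.appTop x D.z) (congrArg CommaMorphism.left hn1)
  wφ := toUnit_unique _ _

end Groth.Agent.GaNotSC
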