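import Groth.Agent.GaNotSC.Dan

/-!
# Translations of the split Danielewski surface
-/

set_option autoImplicit false
set_option linter.style.haveILetI false
set_option backward.isDefEq.respectTransparency false
set_option backward.isDefEq.respectTransparency.types false

universe u

open CategoryTheory CategoryTheory.Limits AlgebraicGeometry Opposite TopologicalSpace

noncomputable section

namespace Groth.Agent.GaNotSC

variable {R : Type u} [CommRing R] {c : R} (D : Split c)

theorem Split.mem_inter {Y : Scheme.{u}} (a : Y ⟶ D.T) (y : Y) :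
    a y ∈ D.T₁ ∧ a y ∈ D.T₂ ↔ ev y (cst (a ≫ D.g) c) ≠ 0 := by
  rw [cst_comp, ← mem_basicOpen_iff, ← mem_basicOpen_appTop, ← D.inter]
  rfl

theorem Split.good_pt {Y : Scheme.{u}} (q : Y ⟶ D.P) (y : Y) : D.Good (q ≫ D.pr) (q.appTop D.w) y :=
  (Split.Good.comp D q).2 (D.good _)

theorem Split.rel_pt {Y : Scheme.{u}} (q : Y ⟶ D.P) :
    cst ((q ≫ D.pr) ≫ D.g) c * q.appTop D.z = q.appTop D.w * (q.appTop D.w + 1) := by
  have h := congrArg q.appTop D.rel
  simp only [map_mul, map_add, map_one] at h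
  rw [← cst_comp, ← Category.assoc] at h
  exact h

theorem Split.translate_good {Y : Scheme.{u}} (a : Y ⟶ D.T) (w l : Γ(Y, ⊤)) (y : Y) (h : D.Good a w y) :
    D.Good a (w + l * cst (a ≫ D.g) c) y := by
  by_cases hc : ev y (cst (a ≫ D.g) c) = 0
  · have e : ev y (w + l * cst (a ≫ D.g) c) = ev y w := by rw [map_add, map_mul, hc, mul_zero, add_zero]
    unfold Split.Good at h ⊢
    simp only [mem_basicOpen_iff, map_add, map_one, e] at h ⊢
    simpa [map_mul, hc] using h
  · obtain ⟨h1, h2⟩ := (D.mem_inter a y).2 hc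
    unfold Split.Good
    by_cases hw : ev y (w + l * cst (a ≫ D.g) c) = 0
    · refine Or.inl ⟨h1, ?_⟩
      rw [mem_basicOpen_iff, map_add, hw, zero_add, map_one]
      exact one_ne_zero
    · exact Or.inr ⟨h2, (mem_basicOpen_iff _ _).2 hw⟩

/-- translate a point by a function -/
def Split.translate {Y : Scheme.{u}} (q : Y ⟶ D.P) (l : Γ(Y, ⊤)) : Y ⟶ D.P :=
  D.mk' (q ≫ D.pr) (q.appTop D.w + l * cst ((q ≫ D.pr) ≫ D.g) c)
    (q.appTop D.z + l * (2 * q.appTop D.w + 1) + l ^ 2 * cst ((q ≫ D.pr) ≫ D.g) c)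
    (by linear_combination D.rel_pt q)
    (fun y => D.translate_good _ _ _ y (D.good_pt q y))

@[reassoc]
theorem Split.translate_pr {Y : Scheme.{u}} (q : Y ⟶ D.P) (l : Γ(Y, ⊤)) : D.translate q l ≫ D.pr = q ≫ D.pr :=
  D.mk'_pr _ _ _ _ _

theorem Split.translate_w {Y : Scheme.{u}} (q : Y ⟶ D.P) (l : Γ(Y, ⊤)) :
    (D.translate q l).appTop D.w = q.appTop D.w + l * cst ((q ≫ D.pr) ≫ D.g) c := D.mk'_w _ _ _ _ _

theorem Split.translate_z {Y : Scheme.{u}} (q : Y ⟶ D.P) (l : Γ(Y, ⊤)) :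
    (D.translate q l).appTop D.z =
      q.appTop D.z + l * (2 * q.appTop D.w + 1) + l ^ 2 * cst ((q ≫ D.pr) ≫ D.g) c := D.mk'_z _ _ _ _ _

theorem Split.comp_translate {Y Y' : Scheme.{u}} (b : Y' ⟶ Y) (q : Y ⟶ D.P) (l : Γ(Y, ⊤)) :
    b ≫ D.translate q l = D.translate (b ≫ q) (b.appTop l) := by
  refine D.hom_ext ?_ ?_ ?_
  · rw [Category.assoc, D.translate_pr, D.translate_pr, Category.assoc]
  · rw [Scheme.Hom.comp_appTop, CommRingCat.comp_apply, D.translate_w, D.translate_w, map_add, map_mul, ← cst_comp]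
    simp [Scheme.Hom.comp_appTop]
  · rw [Scheme.Hom.comp_appTop, CommRingCat.comp_apply, D.translate_z, D.translate_z, map_add, map_add, map_mul,
      map_mul, map_pow, ← cst_comp]
    simp [Scheme.Hom.comp_appTop, map_ofNat]

theorem Split.translate_zero {Y : Scheme.{u}} (q : Y ⟶ D.P) : D.translate q 0 = q :=
  D.hom_ext (D.translate_pr q 0) (by simp [D.translate_w]) (by simp [D.translate_z])

theorem Split.translate_add {Y : Scheme.{u}} (q : Y ⟶ D.P) (l m : Γ(Y, ⊤)) :
    D.translate q (l + m) = D.translate (D.translate q m) l := by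
  refine D.hom_ext (by rw [D.translate_pr, D.translate_pr, D.translate_pr]) ?_ ?_
  · rw [D.translate_w, D.translate_w, D.translate_w, D.translate_pr]; ring
  · rw [D.translate_z, D.translate_z, D.translate_w, D.translate_z, D.translate_pr]; ring

/-- two points over the same point of the base differ by a unique function -/
theorem Split.existsUnique_translate {Y : Scheme.{u}} (p q : Y ⟶ D.P) (h : p ≫ D.pr = q ≫ D.pr) :
    ∃! l : Γ(Y, ⊤), D.translate q l = p := by
  set γ := cst ((q ≫ D.pr) ≫ D.g) c with hγ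
  let dw := p.appTop D.w - q.appTop D.w
  let dz := p.appTop D.z - q.appTop D.z
  let σ := p.appTop D.w + q.appTop D.w + 1
  have hp := D.rel_pt p
  rw [h, ← hγ] at hp
  have hq := D.rel_pt q
  rw [← hγ] at hq
  have hrel : dw * σ = γ * dz := by simp only [dw, σ, dz]; linear_combination hq - hp
  have hcov : ∀ y : Y, y ∈ Y.basicOpen γ ∨ y ∈ Y.basicOpen σ := by
    intro y
    by_cases hc : ev y γ = 0
    swap
    · exact Or.inl ((mem_basicOpen_iff _ _).2 hc)
    refine Or.inr ((mem_basicOpen_iff _ _).2 ?_)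
    have e1 : ev y (p.appTop D.w) * (ev y (p.appTop D.w) + 1) = 0 := by
      rw [← map_one (ev y), ← map_add, ← map_mul, ← hp, map_mul, hc, zero_mul]
    have e2 : ev y (q.appTop D.w) * (ev y (q.appTop D.w) + 1) = 0 := by
      rw [← map_one (ev y), ← map_add, ← map_mul, ← hq, map_mul, hc, zero_mul]
    have hn : ¬ ((q ≫ D.pr) y ∈ D.T₁ ∧ (q ≫ D.pr) y ∈ D.T₂) := fun hh => (D.mem_inter _ y).1 hh hc
    have g1 := D.good_pt p y
    have g2 := D.good_pt q y
    rw [h] at g1
    simp only [Split.Good, mem_basicOpen_iff, map_add, map_one] at g1 g2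
    rw [show σ = p.appTop D.w + q.appTop D.w + 1 from rfl, map_add, map_add, map_one]
    rcases mul_eq_zero.1 e1 with a1 | a1 <;> rcases mul_eq_zero.1 e2 with a2 | a2
    · rw [a1, a2, zero_add, zero_add]; exact one_ne_zero
    · exact absurd ⟨(g1.resolve_right fun e => e.2 a1).1, (g2.resolve_left fun e => e.2 a2).1⟩ hn
    · exact absurd ⟨(g2.resolve_right fun e => e.2 a2).1, (g1.resolve_left fun e => e.2 a1).1⟩ hn
    · rw [show ev y (p.appTop D.w) + ev y (q.appTop D.w) + 1 = (ev y (p.appTop D.w) + 1) + ev y (q.appTop D.w) by ring,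
        a1, zero_add]
      intro e
      rw [e, zero_add] at a2
      exact one_ne_zero a2
  let U : ULift.{u} Bool → Y.Opens := fun b => if b.down then Y.basicOpen γ else Y.basicOpen σ
  have hU : ⨆ b, U b = ⊤ := eq_top_iff.2 fun y _ => Opens.mem_iSup.2
    ((hcov y).elim (fun h => ⟨⟨true⟩, h⟩) (fun h => ⟨⟨false⟩, h⟩))
  let r : ∀ V : Y.Opens, Γ(Y, ⊤) →+* Γ(Y, V) := fun V => (Y.presheaf.map (homOfLE (le_top : V ≤ ⊤)).op).hom
  obtain ⟨g1, hg1⟩ := isUnit_res_basicOpen γ (Y.basicOpen γ) le_rfl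
  obtain ⟨g2, hg2⟩ := isUnit_res_basicOpen σ (Y.basicOpen σ) le_rfl
  let s : ∀ b, Γ(Y, U b) := fun b => match b with
    | ⟨true⟩ => (r (Y.basicOpen γ) dw * (↑g1⁻¹ : Γ(Y, Y.basicOpen γ)) : Γ(Y, Y.basicOpen γ))
    | ⟨false⟩ => (r (Y.basicOpen σ) dz * (↑g2⁻¹ : Γ(Y, Y.basicOpen σ)) : Γ(Y, Y.basicOpen σ))
  have uniq : ∀ (V : Y.Opens) (l l' : Γ(Y, V)), (V ≤ Y.basicOpen γ ∧ l * r V γ = l' * r V γ) ∨
      (V ≤ Y.basicOpen σ ∧ l * r V σ = l' * r V σ) → l = l' := by
    rintro V l l' (⟨hV, e⟩ | ⟨hV, e⟩)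
    · exact (isUnit_res_basicOpen γ V hV).mul_right_cancel e
    · exact (isUnit_res_basicOpen σ V hV).mul_right_cancel e
  have hs : ∀ (b) (V : Y.Opens) (hV : V ≤ U b), Y.presheaf.map (homOfLE hV).op (s b) * r V γ = r V dw ∧
      Y.presheaf.map (homOfLE hV).op (s b) * r V σ = r V dz := by
    intro b V hV
    have rr : ∀ (W : Y.Opens) (hW : V ≤ W) (x : Γ(Y, ⊤)), Y.presheaf.map (homOfLE hW).op (r W x) = r V x :=
      fun W hW x => by
        show (Y.presheaf.map _ ≫ Y.presheaf.map _).hom x = _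
        rw [← Functor.map_comp]; rfl
    have hrel' := congrArg (r V) hrel
    rw [map_mul, map_mul] at hrel'
    rcases b with ⟨_ | _⟩
    · have hg := rr (Y.basicOpen σ) hV σ
      have h2 : Y.presheaf.map (homOfLE hV).op (s ⟨false⟩) * r V σ = r V dz := by
        rw [← hg, ← rr (Y.basicOpen σ) hV dz]
        refine (map_mul (Y.presheaf.map (homOfLE hV).op).hom _ _).symm.trans (congrArg _ ?_)
        show _ * r (Y.basicOpen σ) σ = r (Y.basicOpen σ) dz
        rw [mul_assoc, show r (Y.basicOpen σ) σ = g2 from hg2.symm, Units.inv_mul, mul_one]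
      refine ⟨(isUnit_res_basicOpen σ V hV).mul_right_cancel ?_, h2⟩
      rw [mul_right_comm]
      show _ * r V σ * r V γ = r V dw * r V σ
      rw [h2, hrel', mul_comm]
    · have hg := rr (Y.basicOpen γ) hV γ
      have h1 : Y.presheaf.map (homOfLE hV).op (s ⟨true⟩) * r V γ = r V dw := by
        rw [← hg, ← rr (Y.basicOpen γ) hV dw]
        refine (map_mul (Y.presheaf.map (homOfLE hV).op).hom _ _).symm.trans (congrArg _ ?_)
        show _ * r (Y.basicOpen γ) γ = r (Y.basicOpen γ) dw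
        rw [mul_assoc, show r (Y.basicOpen γ) γ = g1 from hg1.symm, Units.inv_mul, mul_one]
      refine ⟨h1, (isUnit_res_basicOpen γ V hV).mul_right_cancel ?_⟩
      rw [mul_right_comm]
      show _ * r V γ * r V σ = r V dz * r V γ
      rw [h1, hrel', mul_comm]
  have agree : ∀ (b b' : ULift.{u} Bool) (V : Y.Opens) (hb : V ≤ U b) (hb' : V ≤ U b'),
      Y.presheaf.map (homOfLE hb).op (s b) = Y.presheaf.map (homOfLE hb').op (s b') := by
    intro b b' V hb hb'
    rcases b with ⟨_ | _⟩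
    · exact uniq V _ _ (Or.inr ⟨hb, by rw [(hs _ V hb).2, (hs _ V hb').2]⟩)
    · exact uniq V _ _ (Or.inl ⟨hb, by rw [(hs _ V hb).1, (hs _ V hb').1]⟩)
  obtain ⟨l, hl⟩ : ∃ l : Γ(Y, ⊤), ∀ b, r (U b) l = s b := by
    obtain ⟨l, hl, -⟩ := Y.sheaf.existsUnique_gluing' U ⊤ (fun b => homOfLE le_top) hU.ge s
      (fun b b' => agree b b' _ inf_le_left inf_le_right)
    exact ⟨l, hl⟩
  have eqs : l * γ = dw ∧ l * σ = dz := by
    constructor <;> refine Y.sheaf.eq_of_locally_eq' U ⊤ (fun b => homOfLE le_top) hU.ge _ _ fun b => ?_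
    · have := (hs b (U b) le_rfl).1
      simp only [homOfLE_refl, op_id, CategoryTheory.Functor.map_id, CommRingCat.id_apply] at this
      show r (U b) (l * γ) = r (U b) dw
      rw [map_mul, show r (U b) l = s b from hl b, this]
    · have := (hs b (U b) le_rfl).2
      simp only [homOfLE_refl, op_id, CategoryTheory.Functor.map_id, CommRingCat.id_apply] at this
      show r (U b) (l * σ) = r (U b) dz
      rw [map_mul, show r (U b) l = s b from hl b, this]
  refine ⟨l, D.hom_ext ((D.translate_pr q l).trans h.symm) ?_ ?_, fun l' hl' => ?_⟩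
  · rw [D.translate_w, ← hγ, eqs.1]; ring
  · rw [D.translate_z, ← hγ]
    simp only [dw, σ, dz] at eqs
    linear_combination l * eqs.1 + eqs.2
  · have w' := D.translate_w q l'
    have z' := D.translate_z q l'
    rw [hl', ← hγ] at w' z'
    have e1 : l' * γ = dw := by simp only [dw]; linear_combination -w'
    have e2 : l' * σ = dz := by simp only [dz, σ]; linear_combination l' * w' - z'
    refine Y.sheaf.eq_of_locally_eq' U ⊤ (fun b => homOfLE le_top) hU.ge _ _ fun b => ?_
    show r (U b) l' = r (U b) l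
    refine uniq _ _ _ ?_
    rcases b with ⟨_ | _⟩
    · exact Or.inr ⟨le_rfl, by rw [← map_mul, ← map_mul, e2, eqs.2]⟩
    · exact Or.inl ⟨le_rfl, by rw [← map_mul, ← map_mul, e1, eqs.1]⟩

end Groth.Agent.GaNotSC
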